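import Cfsg.Agent.Lib.HB.Bas

/-! S2208, the even case: the block design. -/

set_option autoImplicit false
set_option linter.unusedSectionVars false

namespace H45.HB

open Subgroup Cfsg H69 H69.SI

universe u v

variable {G : Type u} [Group G] [Finite G] {Ω : Type v} [MulAction G Ω] [Finite Ω]
  {q Q μ : ℕ} {N : Ω → Subgroup G} {L : Subgroup G}

namespace EVa

theorem ncard_fiber {α β : Type*} [Finite α] [Finite β] (A : Set α) (B : Set β) (f : α → β) (k : ℕ)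
    (h1 : ∀ x ∈ A, f x ∈ B) (h2 : ∀ b ∈ B, Set.ncard {x | x ∈ A ∧ f x = b} = k) :
    A.ncard = k * B.ncard := by
  classical
  have hA := Set.toFinite A
  have hB := Set.toFinite B
  rw [Set.ncard_eq_toFinset_card A hA, Set.ncard_eq_toFinset_card B hB,
    Finset.card_eq_sum_card_fiberwise (f := f) (t := hB.toFinset) (fun x hx => by
      simpa using h1 x (by simpa using hx)), mul_comm, ← smul_eq_mul, ← Finset.sum_const]
  refine Finset.sum_congr rfl fun b hb => ?_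
  rw [← h2 b (by simpa using hb), ← Set.ncard_coe_finset]
  congr 1
  ext x
  simp

theorem ncard_ne (a : Ω) : Set.ncard {p : Ω | p ≠ a} + 1 = Nat.card Ω := by
  have : ({p : Ω | p ≠ a} : Set Ω) = Set.univ \ {a} := by ext p; simp
  rw [this, Set.ncard_sdiff_singleton_add_one (Set.mem_univ a), Set.ncard_univ]

theorem ncard_FS_cj (S : Subgroup G) (g : G) :
    Set.ncard (FS (S ^ᶜ g) : Set Ω) = Set.ncard (FS S : Set Ω) := by
  rw [← Set.ncard_image_of_injective (FS S : Set Ω) (MulAction.injective g)]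
  congr 1
  ext p
  constructor
  · intro hp
    exact ⟨g⁻¹ • p, mem_FS_cj.1 hp, smul_inv_smul g p⟩
  · rintro ⟨r, hr, rfl⟩
    exact (smul_mem_FS g).2 hr

theorem conj (h : Cf q N) {S S' : Subgroup G} (hS : Bk N S) (hS' : Bk N S') : ∃ g : G, S ^ᶜ g = S' := by
  obtain ⟨p, hp⟩ := hS
  obtain ⟨p', hp'⟩ := hS'
  obtain ⟨g, rfl⟩ := h.tr p p'
  obtain ⟨k, -, rfl⟩ := (h.syl_cj hp g).conj hp'
  exact ⟨k * g, (cj_cj S g k).symm⟩

theorem semi (h : Cf q N) (hK : KK N) {S : Subgroup G} (hS : Bk N S) {s : G} (hs : s ∈ S) (h1 : s ≠ 1)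
    {y : Ω} (hy : s • y = y) : y ∈ (FS S : Set Ω) := by
  obtain ⟨p, hp⟩ := hS
  by_cases e : p = y
  · exact e ▸ h.mem_FS_self hp.le
  obtain ⟨T, hT, hyT⟩ := hK p y e
  obtain ⟨k, hk⟩ := pow_of_mem hp.isP hs
  rw [(h.bn p).ti hp hT s hs (h.kk_mem e hT hyT (hp.le hs) hy hk) h1]
  exact hyT

theorem two (h : Cf q N) (hK : KK N) {S : Subgroup G} (hS : Bk N S) :
    ∃ x y : Ω, x ≠ y ∧ x ∈ (FS S : Set Ω) ∧ y ∈ (FS S : Set Ω) := by
  obtain ⟨p, hp⟩ := hS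
  obtain ⟨y, hy⟩ := h.exists_ne p
  obtain ⟨T, hT, hyT⟩ := hK p y hy
  obtain ⟨g, hg, rfl⟩ := hT.conj hp
  refine ⟨p, g • y, fun e => hy ?_, h.mem_FS_self hp.le, (smul_mem_FS g).2 hyT⟩
  exact MulAction.injective g ((h.fix p g hg).trans e)

theorem uniq (h : Cf q N) (hS : Sym N) {S S' : Subgroup G} (h1 : Bk N S) (h2 : Bk N S') {x y : Ω}
    (hxy : x ≠ y) (a : x ∈ (FS S : Set Ω)) (b : y ∈ (FS S : Set Ω)) (c : x ∈ (FS S' : Set Ω))
    (d : y ∈ (FS S' : Set Ω)) : S = S' := by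
  obtain ⟨p, hp⟩ := h1
  obtain ⟨p', hp'⟩ := h2
  exact (h.uniq hxy (hS p S hp x a) (hS p' S' hp' x c) b d).symm

theorem ti (h : Cf q N) (hK : KK N) (hS : Sym N) {S S' : Subgroup G} (h1 : Bk N S) (h2 : Bk N S')
    {s : G} (hs : s ∈ S) (hs' : s ∈ S') (hne : s ≠ 1) : S = S' := by
  obtain ⟨x, y, hxy, a, b⟩ := two h hK h1
  exact uniq h hS h1 h2 hxy a b (semi h hK h2 hs' hne (a s hs)) (semi h hK h2 hs' hne (b s hs))

theorem card (h : Cf q N) (hK : KK N) {a : Ω} {S : Subgroup G} (hS : Syl (N a) S) :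
    Nat.card Ω = 1 + (Set.ncard (FS S : Set Ω) - 1) * (Nat.card S + 1) := by
  classical
  have hf : ∀ p : Ω, ∃ T : Subgroup G, p ≠ a → Syl (N a) T ∧ p ∈ (FS T : Set Ω) := fun p => by
    by_cases e : p = a
    · exact ⟨⊥, fun f => absurd e f⟩
    · obtain ⟨T, h1, h2⟩ := hK a p (Ne.symm e)
      exact ⟨T, fun _ => ⟨h1, h2⟩⟩
  choose f hf using hf
  rw [← ncard_ne a, add_comm, ← (h.bn a).nsyl hS]
  congr 1
  refine ncard_fiber _ _ f _ (fun p hp => (hf p hp).1) fun T hT => ?_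
  obtain ⟨g, -, e⟩ := hS.conj hT
  rw [← ncard_FS_cj S g, e, ← Set.ncard_sdiff_singleton_of_mem (h.mem_FS_self hT.le)]
  congr 1
  ext p
  constructor
  · rintro ⟨h1, rfl⟩
    exact ⟨(hf p h1).2, h1⟩
  · rintro ⟨h1, h2⟩
    exact ⟨h2, h.uniq (Ne.symm h2) hT (hf p h2).1 h1 (hf p h2).2⟩

end EVa

theorem Cf.kk (h : Cf q N) (he : Even (Nat.card Ω)) : KK N := by
  obtain ⟨a, -, -⟩ := h.ne
  obtain ⟨S, hS⟩ := exists_isSylowIn 2 (N a)
  obtain ⟨p, hp, hf⟩ := exists_fixed (Ω := Ω) hS.isP (A := {p | p ≠ a})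
    (by rw [← EVa.ncard_ne a, Nat.even_add_one, Nat.not_even_iff_odd] at he; exact he)
    fun g hg p hp e => hp (MulAction.injective g (e.trans (h.fix a g (hS.le hg)).symm))
  intro x y hxy
  obtain ⟨g, rfl, rfl⟩ := h.two a p x y (Ne.symm hp) hxy
  exact ⟨_, h.syl_cj hS g, (smul_mem_FS g).2 hf⟩

theorem Cf.ev0 (h : Cf q N) (hK : KK N) (hS : Sym N) : ∃ Q μ, Ev0 q Q μ N := by
  obtain ⟨a, -, -⟩ := h.ne
  obtain ⟨S₀, h0⟩ := exists_isSylowIn 2 (N a)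
  refine ⟨Nat.card S₀, Set.ncard (FS S₀ : Set Ω), h, fun ⟨_, hp⟩ => h.card_syl hp h0, hK,
    fun ⟨p, hp⟩ => hS p _ hp, fun h1 h2 _ _ => EVa.uniq h hS h1 h2,
    fun h1 _ hs hne _ => EVa.semi h hK h1 hs hne, fun h1 h2 _ => EVa.ti h hK hS h1 h2, fun h1 => ?_, ?_,
    EVa.card h hK h0, fun h1 _ hc => h.cover' hK h1 hc, fun {S S'} h1 h2 hne s hs hs1 hn => ?_⟩
  · obtain ⟨g, rfl⟩ := EVa.conj h ⟨a, h0⟩ h1
    exact EVa.ncard_FS_cj S₀ g
  · obtain ⟨x, y, hxy, hx, hy⟩ := EVa.two h hK ⟨a, h0⟩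
    exact (Set.one_lt_ncard (Set.toFinite _)).2 ⟨x, hx, y, hy, hxy⟩
  · refine Set.disjoint_left.2 fun p hp hp' => hne ?_
    obtain ⟨x, hx⟩ := id h1
    obtain ⟨x', hx'⟩ := id h2
    obtain ⟨k, hk⟩ := pow_of_mem hx.isP hs
    exact (EVa.ti h hK hS h1 h2 hs
      (mem_syl (hS x' S' hx' p hp') ((hS x S hx p hp).le hs) hn hk) hs1).symm

end H45.HB
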