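import Cfsg.Agent.Lib.HB.Bas
import Cfsg.Agent.Lib.Holt.BF1

set_option autoImplicit false
set_option linter.unusedSectionVars false

namespace H45.HB

open Subgroup Cfsg H69 H69.SI

universe u v

variable {G : Type u} [Group G] [Finite G] {q : ℕ} {N : Subgroup G}
  {Λ : Type u} [Finite Λ] {L : Subgroup (Equiv.Perm Λ)} {ρ : G → Equiv.Perm Λ} {σ : Λ → Subgroup G}

namespace B1p

theorem norm (h : B0 q N) (K : Subgroup G) (hK : K ≤ N) (hn : N ≤ 𝐍(K)) : K = ⊥ ∨ K = N := by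
  haveI := h.simple
  have hN : (K.subgroupOf N).Normal := (normal_subgroupOf_iff_le_normalizer hK).2 hn
  rcases hN.eq_bot_or_eq_top with e | e
  · left
    rw [eq_bot_iff_forall]
    intro x hx
    have : (⟨x, hK hx⟩ : N) ∈ K.subgroupOf N := hx
    rw [e, mem_bot] at this
    exact congrArg Subtype.val this
  · exact Or.inr (le_antisymm hK (subgroupOf_eq_top.1 e))

theorem zero (h : B0 q N) : ∀ x ∈ N, x ∈ 𝐂(N) → x = 1 := by
  intro x hx hc
  rcases norm h (N ⊓ 𝐂(N)) inf_le_left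
    (le_normalizer_inf le_normalizer (le_normalizer_centralizer le_normalizer)) with e | e
  · have : x ∈ N ⊓ 𝐂(N) := mem_inf.2 ⟨hx, hc⟩
    rwa [e, mem_bot] at this
  · exfalso
    refine h.nab ⟨⟨fun a b => Subtype.ext ?_⟩⟩
    have hb : (b : G) ∈ N ⊓ 𝐂(N) := by rw [e]; exact b.2
    exact (mem_inf.1 hb).2 a a.2

theorem rpow (m : Mo N L ρ σ) {t : G} (ht : t ∈ 𝐍(N)) (n : ℕ) : ρ (t ^ n) = ρ t ^ n := by
  induction n with
  | zero => rw [pow_zero, pow_zero, m.one]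
  | succ n ih => rw [pow_succ, pow_succ, m.mul _ (pow_mem ht n) _ ht, ih]

theorem rone (m : Mo N L ρ σ) {t : G} (ht : t ∈ N) (e : ρ t = 1) : t = 1 :=
  m.inj t ht 1 (one_mem _) (by rw [e, m.one])

theorem rconj (m : Mo N L ρ σ) {t x : G} (ht : t ∈ 𝐍(N)) (hx : x ∈ 𝐍(N)) :
    ρ (t * x * t⁻¹) = ρ t * ρ x * (ρ t)⁻¹ := by
  rw [m.mul _ (mul_mem ht hx) _ (inv_mem ht), m.mul _ ht _ hx, m.inv _ ht]

theorem cardS (m : Mo N L ρ σ) (a : Λ) : Nat.card (H29.Holt.Sb L a) = Nat.card (σ a) :=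
  m.card _ _ (m.syl a).le (m.memS a)

theorem cardV (h : B0 q N) (m : Mo N L ρ σ) (a : Λ) : Nat.card (H29.Holt.Vb L a) = q := by
  rw [m.card _ _ (zo_le'.trans (m.syl a).le) (m.memV a), h.cardZ (m.syl a)]

theorem trans (m : Mo N L ρ σ) {S S₁ S₂ : Subgroup G} (hS : Syl N S) (h1 : Syl N S₁) (h2 : Syl N S₂)
    (n1 : S₁ ≠ S) (n2 : S₂ ≠ S) : ∃ s ∈ S, S₁ ^ᶜ s = S₂ := by
  obtain ⟨a, rfl⟩ := m.surj hS
  obtain ⟨b, rfl⟩ := m.surj h1
  obtain ⟨c, rfl⟩ := m.surj h2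
  obtain ⟨l, hl, e⟩ := m.ben.Sb_trans (a := a) (b := b) (c := c) (fun f => n1 (by rw [f]))
    (fun f => n2 (by rw [f]))
  obtain ⟨x, hx, rfl⟩ := (m.memS a l).1 hl
  exact ⟨x, hx, by rw [← m.act x (le_normalizer (hS.le hx)), e]⟩

theorem ztr (m : Mo N L ρ σ) {S S₁ : Subgroup G} (hS : Syl N S) (h1 : Syl N S₁) (n1 : S₁ ≠ S) :
    ∀ u ∈ zo S, u ≠ 1 → ∀ v ∈ zo S, v ≠ 1 → ∃ t ∈ N, t ∈ 𝐍(S) ∧ t ∈ 𝐍(S₁) ∧ t * u * t⁻¹ = v := by
  intro u hu u1 v hv v1
  obtain ⟨a, rfl⟩ := m.surj hS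
  obtain ⟨b, rfl⟩ := m.surj h1
  have huN := hS.le (zo_le' hu)
  have hvN := hS.le (zo_le' hv)
  obtain ⟨l, hl, e1, e2, e3⟩ := m.ben.torus (a := a) (b := b) (fun f => n1 (by rw [f]))
    ((m.memV a _).2 ⟨u, hu, rfl⟩) (fun e => u1 (rone m huN e))
    ((m.memV a _).2 ⟨v, hv, rfl⟩) (fun e => v1 (rone m hvN e))
  obtain ⟨x, hx, rfl⟩ := (m.mem l).1 hl
  have hx' : x ∈ 𝐍(N) := le_normalizer hx
  refine ⟨x, hx, (m.fix x hx' a).1 e1, (m.fix x hx' b).1 e2, m.inj _ (conj_mem_of_mem_normalizer hx' huN) _ hvN ?_⟩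
  rw [rconj m hx' (le_normalizer huN), e3]

theorem exists_z (h : B0 q N) {S : Subgroup G} (hS : Syl N S) : ∃ z ∈ zo S, z ≠ 1 := by
  by_contra hc
  push Not at hc
  have : zo S = ⊥ := (eq_bot_iff_forall _).2 hc
  have h1 := h.cardZ hS
  rw [this, card_bot] at h1
  have := h.four
  omega

theorem dih {u v : G} (hu : u * u = 1) (hv : v * v = 1) (n : ℕ) :
    u * (u * v) ^ n * u⁻¹ = ((u * v) ^ n)⁻¹ := by
  rw [← conj_pow, ← inv_pow]
  congr 1
  have e1 : u⁻¹ = u := inv_eq_of_mul_eq_one_right hu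
  have e2 : v⁻¹ = v := inv_eq_of_mul_eq_one_right hv
  rw [← mul_assoc, hu, one_mul, mul_inv_rev, e1, e2]

theorem oddP (h : B0 q N) {S S₁ : Subgroup G} (hS : Syl N S) (h1 : Syl N S₁) (n1 : S₁ ≠ S) :
    ∀ u ∈ zo S, u ≠ 1 → ∀ v ∈ zo S₁, v ≠ 1 →
    Odd (orderOf (u * v)) ∧ ∃ g ∈ closure ({u, v} : Set G), g * u * g⁻¹ = v := by
  intro u hu u1 v hv v1
  have u2 := zo_sq hu
  have v2 := zo_sq hv
  have huN := hS.le (zo_le' hu)
  have hvN := h1.le (zo_le' hv)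
  have ho : Odd (orderOf (u * v)) := by
    rw [← Nat.not_even_iff_odd]
    rintro ⟨k, hk⟩
    have hpos := orderOf_pos (u * v)
    have w2 : (u * v) ^ k * (u * v) ^ k = 1 := by rw [← pow_add, ← hk, pow_orderOf_eq_one]
    have w1 : (u * v) ^ k ≠ 1 := pow_ne_one_of_lt_orderOf (by omega) (by omega)
    have wN : (u * v) ^ k ∈ N := pow_mem (mul_mem huN hvN) k
    have cu : (u * v) ^ k * u = u * (u * v) ^ k := by
      have := dih u2 v2 k
      rw [inv_eq_of_mul_eq_one_right w2, mul_inv_eq_iff_eq_mul] at this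
      exact this.symm
    have cc : (u * v) ^ k * (u * v) = u * v * (u * v) ^ k := by rw [← pow_succ, pow_succ']
    have cv : (u * v) ^ k * v = v * (u * v) ^ k := by
      generalize (u * v) ^ k = w at *
      calc w * v = w * (u * u) * v := by rw [u2, mul_one]
        _ = (w * u) * (u * v) := by group
        _ = u * (w * (u * v)) := by rw [cu]; group
        _ = (u * u) * v * w := by rw [cc]; group
        _ = v * w := by rw [u2, one_mul]
    have key : ∀ {T : Subgroup G} {x : G}, Syl N T → x ∈ T → x ≠ 1 → (u * v) ^ k * x = x * (u * v) ^ k →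
        (u * v) ^ k ∈ T := fun {T x} hT hx x1 c =>
      mem_syl' hT wN (cj_eq_self_iff.1 (h.ti (hT.cj_of_mem_normalizer (le_normalizer wN)) hT x
        (mem_cj.2 (by rw [mul_assoc, ← c, inv_mul_cancel_left]; exact hx)) hx x1)) w2
    exact n1 (h.ti h1 hS _ (key h1 (zo_le' hv) v1 cv) (key hS (zo_le' hu) u1 cu) w1)
  refine ⟨ho, ?_⟩
  obtain ⟨k, hk⟩ := ho
  refine ⟨(u * v) ^ k, pow_mem (mul_mem (subset_closure (by simp)) (subset_closure (by simp))) k, ?_⟩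
  have e1 : (u * v) ^ k * (u * v) ^ k * (u * v) = 1 := by
    rw [← pow_add, ← pow_succ, ← two_mul, ← hk, pow_orderOf_eq_one]
  have e2 := dih u2 v2 k
  have ui : u⁻¹ = u := inv_eq_of_mul_eq_one_right u2
  have vi : v⁻¹ = v := inv_eq_of_mul_eq_one_right v2
  generalize (u * v) ^ k = w at *
  have e3 : w * w = (u * v)⁻¹ := eq_inv_of_mul_eq_one_left e1
  calc w * u * w⁻¹ = w * u * (u * w * u⁻¹) := by rw [e2]
    _ = w * (u * u) * w * u⁻¹ := by group
    _ = (w * w) * u⁻¹ := by rw [u2, mul_one]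
    _ = v⁻¹ * (u * u)⁻¹ := by rw [e3]; group
    _ = v := by rw [u2, vi, inv_one, mul_one]

end B1p

theorem b1_of (h : B0 q N) (m : Mo N L ρ σ) : B1 q N where
  pow := by
    obtain ⟨S, hS⟩ := exists_isSylowIn 2 N
    obtain ⟨k, hk⟩ := (hS.isP.to_le zo_le').exists_card_eq
    rw [h.cardZ hS] at hk
    refine ⟨k, ?_, hk⟩
    have := h.four
    by_contra c
    have : k = 0 ∨ k = 1 := by omega
    rcases this with rfl | rfl <;> omega
  zero := B1p.zero h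
  norm := B1p.norm h
  trans := B1p.trans m
  reg := fun {S S₁} hS h1 n1 s hs hn => by
    obtain ⟨a, rfl⟩ := m.surj hS
    obtain ⟨b, rfl⟩ := m.surj h1
    exact B1p.rone m (hS.le hs) (m.ben.reg ((m.memS a _).2 ⟨s, hs, rfl⟩) (b := b) (fun f => n1 (by rw [f]))
      ((m.fix s (le_normalizer (hS.le hs)) b).2 hn))
  gen := fun {S S₁} hS h1 n1 => by
    have hJ : (⨆ T : {T // Syl N T}, T.1) = N := by
      refine (B1p.norm h _ (iSup_le fun T => T.2.le) (le_normalizer_of_cj_le fun g hg => ?_)).resolve_left ?_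
      · rw [cj_iSup]
        exact iSup_le fun T => le_iSup (fun T : {T // Syl N T} => T.1)
          ⟨_, T.2.cj_of_mem_normalizer (le_normalizer hg)⟩
      · intro e
        obtain ⟨z, hz, z1⟩ := B1p.exists_z h hS
        have : z ∈ (⨆ T : {T // Syl N T}, T.1) := le_iSup (fun T : {T // Syl N T} => T.1) ⟨S, hS⟩ (zo_le' hz)
        rw [e, mem_bot] at this
        exact z1 this
    refine le_antisymm (sup_le hS.le h1.le) (hJ.ge.trans (iSup_le fun T => ?_))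
    by_cases e : T.1 = S
    · exact e.le.trans le_sup_left
    · obtain ⟨s, hs, f⟩ := B1p.trans m hS h1 T.2 n1 e
      rw [← f]
      exact cj_le_of_mem le_sup_right (mem_sup_left hs)
  nsyl := fun {S} hS => by
    obtain ⟨a, rfl⟩ := m.surj hS
    have : {S' | Syl N S'} = σ '' Set.univ := by
      ext T
      exact ⟨fun hT => let ⟨b, hb⟩ := m.surj hT; ⟨b, trivial, hb⟩, fun ⟨b, _, hb⟩ => hb ▸ m.syl b⟩
    rw [this, Set.ncard_image_of_injective _ m.σinj, Set.ncard_univ, m.ben.card_eq a, B1p.cardS m]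
  ztr := B1p.ztr m
  oddT := fun {S S₁} hS h1 n1 t ht t1 t2 => by
    obtain ⟨a, rfl⟩ := m.surj hS
    obtain ⟨b, rfl⟩ := m.surj h1
    have ht' : t ∈ 𝐍(N) := le_normalizer ht
    have : orderOf t = orderOf (ρ t) := orderOf_eq_orderOf_iff.2 fun n =>
      ⟨fun e => by rw [← B1p.rpow m ht', e, m.one],
        fun e => B1p.rone m (pow_mem ht n) (by rw [B1p.rpow m ht', e])⟩
    rw [this]
    exact m.ben.odd_two ((m.mem _).2 ⟨t, ht, rfl⟩) (a := a) (b := b) (fun f => n1 (by rw [f]))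
      ((m.fix t ht' a).2 t1) ((m.fix t ht' b).2 t2)
  oddP := B1p.oddP h
  invc := fun u hu u2 u1 v hv v2 v1 => by
    obtain ⟨S, hS, huS⟩ := exists_syl_mem' hu u2
    obtain ⟨S', hS', hvS⟩ := exists_syl_mem' hv v2
    obtain ⟨g, hg, e⟩ := hS.conj hS'
    obtain ⟨S₁, h1, n1⟩ := h.other hS'
    obtain ⟨t, ht, -, -, f⟩ := B1p.ztr m hS' h1 n1 (g * u * g⁻¹)
      (h.inv hS' _ (e ▸ cj_mem g huS) (cj_sq u2 g)) (cj_ne u1 g) v (h.inv hS' v hvS v2) v1
    exact ⟨t * g, mul_mem ht hg, by rw [← f]; group⟩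
  ninv := fun {S} hS => by
    obtain ⟨a, rfl⟩ := m.surj hS
    have e1 := m.ben.nInv_eq a
    rw [B1p.cardV h m, m.ben.card_eq a, B1p.cardS m] at e1
    have e2 : H29.Holt.nInv L = Set.ncard {u | u ∈ N ∧ u * u = 1 ∧ u ≠ 1} := by
      rw [← Set.ncard_image_of_injOn (f := ρ) fun x hx y hy e => m.inj x hx.1 y hy.1 e]
      unfold H29.Holt.nInv
      congr 1
      ext l
      constructor
      · rintro ⟨hl, l1, l2⟩
        obtain ⟨x, hx, rfl⟩ := (m.mem l).1 hl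
        refine ⟨x, ⟨hx, B1p.rone m (mul_mem hx hx) ?_, fun e => l1 (by rw [e, m.one])⟩, rfl⟩
        rw [m.mul _ (le_normalizer hx) _ (le_normalizer hx), l2]
      · rintro ⟨x, ⟨hx, x2, x1⟩, rfl⟩
        refine ⟨(m.mem _).2 ⟨x, hx, rfl⟩, fun e => x1 (B1p.rone m hx e), ?_⟩
        rw [← m.mul _ (le_normalizer hx) _ (le_normalizer hx), x2, m.one]
    rw [← e2]
    have := h.four
    obtain ⟨r, rfl⟩ : ∃ r, q = r + 1 := ⟨q - 1, by omega⟩
    rw [Nat.add_sub_cancel]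
    nlinarith

end H45.HB
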