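import Cfsg.Agent.Lib.HB.B1
import Cfsg.Agent.Lib.Holt.BF2
import Cfsg.Agent.Lib.BSE14.Real
import Cfsg.Agent.Lib.Gold2.BF

set_option autoImplicit false
set_option linter.unusedSectionVars false

namespace H45.HB

open Subgroup Cfsg H69 H69.SI

universe u v

variable {G : Type u} [Group G] [Finite G] {q : ℕ} {N : Subgroup G}
  {Λ : Type u} [Finite Λ] {L : Subgroup (Equiv.Perm Λ)} {ρ : G → Equiv.Perm Λ} {σ : Λ → Subgroup G}

namespace B2p

theorem typeI (h : B0 q N) (h1 : B1 q N) {S : Subgroup G} (hS : Syl N S) : Gold.TypeI N (zo S) S where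
  syl := hS
  le := zo_le'
  ea := ea_zo S
  inv := h.inv hS
  four := (h.cardZ hS).symm ▸ h.four
  ti := fun g hg hn => (eq_bot_iff_forall _).2 fun x hx => by
    by_contra x1
    exact hn (cj_eq_self_iff.1 (h.ti hS (hS.cj_of_mem_normalizer (le_normalizer hg)) x
      (mem_inf.1 hx).1 (mem_inf.1 hx).2 x1).symm)
  trans := fun g hg hn k hk hn' => h1.trans hS (hS.cj_of_mem_normalizer (le_normalizer hg))
    (hS.cj_of_mem_normalizer (le_normalizer hk)) (fun e => hn (cj_eq_self_iff.1 e))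
    (fun e => hn' (cj_eq_self_iff.1 e))
  nn := fun hn => by
    obtain ⟨S', h2, h3⟩ := h.other hS
    obtain ⟨g, hg, e⟩ := hS.conj h2
    exact h3 (by rw [← e, cj_eq_of_mem_normalizer (hn hg)])

theorem sq (h : B0 q N) (m : Mo N L ρ σ) {S : Subgroup G} (hS : Syl N S) : ∀ s ∈ S, s * s ∈ zo S := by
  intro s hs
  obtain ⟨a, rfl⟩ := m.surj hS
  have hs' : s ∈ 𝐍(N) := le_normalizer (hS.le hs)
  obtain ⟨z, hz, e⟩ := (m.memV a _).1 (m.ben.sq_mem ((m.memS a _).2 ⟨s, hs, rfl⟩))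
  rw [← m.mul s hs' s hs'] at e
  rw [← m.inj z (hS.le (zo_le' hz)) _ (hS.le (mul_mem hs hs)) e]
  exact hz

theorem fib_eq (h1 : B1 q N) {S S₁ : Subgroup G} (hS : Syl N S) (h2 : Syl N S₁) (n1 : S₁ ≠ S)
    {u v : G} (hu : u ∈ zo S) (u1 : u ≠ 1) (hv : v ∈ zo S) (v1 : v ≠ 1) :
    Set.ncard {s | s ∈ S ∧ s * s = u} = Set.ncard {s | s ∈ S ∧ s * s = v} := by
  obtain ⟨t, -, ht, -, e⟩ := h1.ztr hS h2 n1 u hu u1 v hv v1
  refine Set.ncard_congr (fun s _ => t * s * t⁻¹) ?_ ?_ ?_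
  · rintro s ⟨hs, e'⟩
    exact ⟨conj_mem_of_mem_normalizer ht hs, by rw [← e, ← e']; group⟩
  · intro s s' _ _ e'
    simpa using e'
  · rintro s ⟨hs, e'⟩
    refine ⟨t⁻¹ * s * t, ⟨conj_mem_of_mem_normalizer' ht hs, ?_⟩, by group⟩
    calc t⁻¹ * s * t * (t⁻¹ * s * t) = t⁻¹ * (s * s) * t := by group
      _ = u := by rw [e', ← e]; group

end B2p

theorem b2_of (h : B0 q N) (h1 : B1 q N) (m : Mo N L ρ σ) : B2 q N where
  cases := fun {S} hS => by
    obtain ⟨a, rfl⟩ := m.surj hS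
    obtain ⟨b, hb⟩ := m.ben.exists_ne a
    obtain ⟨t, Q, hQ, -, -, e1, e2⟩ := m.ben.su27 hb
    have c1 : Nat.card Q = Nat.card (σ a) := by
      rw [← B1p.cardS m, ← e1, card_map_of_injective L.subtype_injective]
    have c2 : Nat.card (H13.Suz.Q0 Q) = q := by
      rw [← B1p.cardV h m a, ← e2, card_map_of_injective L.subtype_injective]
    rcases H14.Real.cases_Q hQ m.ben.rank2 with ⟨e, -⟩ | ⟨e, k, hk⟩ | ⟨e, -⟩
    · left; rw [← c1, ← c2]; exact congrArg (fun X : Subgroup L => Nat.card X) e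
    · refine Or.inr (Or.inl ⟨by rw [← c1, ← c2, e], ?_⟩)
      have := h.four
      rw [c2] at hk
      rcases k with _ | k
      · omega
      · rw [hk]
        calc 8 = 2 ^ 3 := rfl
          _ ≤ _ := Nat.pow_le_pow_right (by norm_num) (by omega)
    · exact Or.inr (Or.inr (by rw [← c1, ← c2, e]))
  sq := B2p.sq h m
  comm := fun {S} hS s hs s' hs' => by
    have e : s * s' * s⁻¹ * s'⁻¹ = (s * s) * ((s⁻¹ * s') * (s⁻¹ * s')) * (s'⁻¹ * s'⁻¹) := by group
    rw [e]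
    exact mul_mem (mul_mem (B2p.sq h m hS s hs) (B2p.sq h m hS _ (mul_mem (inv_mem hs) hs')))
      (B2p.sq h m hS _ (inv_mem hs'))
  cen := fun {S} hS s hs hc =>
    (B2p.typeI h h1 hS).le_of_abel h.simple (B := S ⊓ 𝐂(S)) inf_le_left
      (fun x hx y hy => (mem_inf.1 hx).2 y (mem_inf.1 hy).1)
      (inf_le_right.trans (le_normalizer_inf le_rfl (normalizer_le_normalizer_centralizer S)))
      (mem_inf.2 ⟨hs, hc⟩)
  irr := fun {S} hS W w1 w2 hn =>
    (B2p.typeI h h1 hS).irr h.simple w1 w2 fun g hg => hn g (mem_inf.1 hg).1 (mem_inf.1 hg).2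
  fib := fun {S} hS u hu u1 => by
    classical
    obtain ⟨S₁, h2, n1⟩ := h.other hS
    letI := Fintype.ofFinite (zo S)
    let f : S → zo S := fun s => ⟨s * s, B2p.sq h m hS s s.2⟩
    have e1 : ∀ v : zo S, Nat.card {s // f s = v} = Set.ncard {s | s ∈ S ∧ s * s = v} := fun v => by
      rw [← Nat.card_coe_set_eq]
      exact Nat.card_congr ⟨fun s => ⟨s.1.1, s.1.2, congrArg Subtype.val s.2⟩,
        fun s => ⟨⟨s.1, s.2.1⟩, Subtype.ext s.2.2⟩, fun _ => rfl, fun _ => rfl⟩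
    have e2 : Set.ncard {s | s ∈ S ∧ s * s = ((1 : zo S) : G)} = q := by
      rw [← h.cardZ hS, ← Nat.card_coe_set_eq]
      exact Nat.card_congr (Equiv.subtypeEquivRight fun x =>
        ⟨fun hx => h.inv hS x hx.1 hx.2, fun hx => ⟨zo_le' hx, zo_sq hx⟩⟩)
    rw [← Nat.card_congr (Equiv.sigmaFiberEquiv f), Nat.card_sigma,
      ← Finset.add_sum_erase _ _ (Finset.mem_univ (1 : zo S)), e1, e2,
      Finset.sum_congr rfl (g := fun _ => Set.ncard {s | s ∈ S ∧ s * s = u}) fun v hv => by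
        rw [e1]
        exact B2p.fib_eq h1 hS h2 n1 v.2 (fun e => Finset.ne_of_mem_erase hv (Subtype.ext e)) hu u1,
      Finset.sum_const, Finset.card_erase_of_mem (Finset.mem_univ _), Finset.card_univ,
      ← Nat.card_eq_fintype_card, h.cardZ hS, smul_eq_mul, add_comm]

end H45.HB
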