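import Cfsg.Agent.Lib.HB.B1
import Cfsg.Agent.Lib.Holt.BF2

set_option autoImplicit false
set_option linter.unusedSectionVars false

namespace H45.HB

open Subgroup Cfsg H69 H69.SI

universe u v

variable {G : Type u} [Group G] [Finite G] {q : ℕ} {N : Subgroup G}
  {Λ : Type u} [Finite Λ] {L : Subgroup (Equiv.Perm Λ)} {ρ : G → Equiv.Perm Λ} {σ : Λ → Subgroup G}

namespace B3p

theorem rsq (m : Mo N L ρ σ) {y : G} (hy : y ∈ 𝐍(N)) (y2 : y * y = 1) : ρ y * ρ y = 1 := by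
  rw [← m.mul y hy y hy, y2, m.one]

theorem inner (m : Mo N L ρ σ) {a : Λ} {y : G} (hy : y ∈ 𝐍(N)) (hn : y ∈ 𝐍(σ a)) (y2 : y * y = 1)
    (hL : ρ y ∈ L) : ∃ z ∈ zo (σ a), z * y ∈ 𝐂(N) := by
  obtain ⟨z, hz, e⟩ := (m.memV a _).1 (m.ben.mem_Vb.2 ⟨hL, (m.fix y hy a).2 hn, rsq m hy y2⟩)
  have hz' : z ∈ 𝐍(N) := le_normalizer ((m.syl a).le (zo_le' hz))
  exact ⟨z, hz, (m.ker _ (mul_mem hz' hy)).1 (by rw [m.mul z hz' y hy, e, rsq m hy y2])⟩

theorem comm_iff (m : Mo N L ρ σ) {x y : G} (hx : x ∈ N) (hy : y ∈ 𝐍(N)) :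
    ρ x * ρ y = ρ y * ρ x ↔ x * y = y * x := by
  have hx' : x ∈ 𝐍(N) := le_normalizer hx
  refine ⟨fun e => ?_, fun e => by rw [← m.mul x hx' y hy, e, m.mul y hy x hx']⟩
  have := m.inj _ (conj_mem_of_mem_normalizer hy hx) x hx (by
    rw [B1p.rconj m hy hx', ← e, mul_inv_cancel_right])
  rw [mul_inv_eq_iff_eq_mul] at this
  exact this.symm

end B3p

theorem b3_of (h : B0 q N) (h1 : B1 q N) (m : Mo N L ρ σ) : B3 q N where
  out := fun {S} hS y hy hn y2 => by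
    obtain ⟨a, rfl⟩ := m.surj hS
    by_cases hL : ρ y ∈ L
    · exact Or.inl (B3p.inner m hy hn y2 hL)
    obtain ⟨⟨b, hb, eb⟩, -, k⟩ := m.ben.field27 (m.nrm y hy) (B3p.rsq m hy y2) hL ((m.fix y hy a).2 hn)
    refine Or.inr ⟨⟨σ b, m.syl b, fun e => hb (m.σinj e), (m.fix y hy b).1 eb⟩, k.imp ?_ ?_⟩
    · rintro ⟨e1, e2⟩
      refine ⟨by rw [← B1p.cardS m, e1, B1p.cardV h m], ?_⟩
      rw [← B1p.cardV h m a, ← e2]
      congr 1
      refine (m.card _ _ (inf_le_left.trans (zo_le'.trans hS.le)) fun l => ⟨fun hl => ?_, ?_⟩).symm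
      · obtain ⟨x, hx, rfl⟩ := (m.memV a l).1 (mem_inf.1 hl).1
        exact ⟨x, mem_inf.2 ⟨hx, mem_cs.2 ((B3p.comm_iff m (hS.le (zo_le' hx)) hy).1
          (mem_cs.1 (mem_inf.1 hl).2))⟩, rfl⟩
      · rintro ⟨x, hx, rfl⟩
        exact mem_inf.2 ⟨(m.memV a _).2 ⟨x, (mem_inf.1 hx).1, rfl⟩,
          mem_cs.2 ((B3p.comm_iff m (hS.le (zo_le' (mem_inf.1 hx).1)) hy).2 (mem_cs.1 (mem_inf.1 hx).2))⟩
    · rintro ⟨e1, e2⟩
      refine ⟨by rw [← B1p.cardS m, e1, B1p.cardV h m], fun x hx => ?_⟩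
      exact (B3p.comm_iff m (hS.le (zo_le' hx)) hy).1 (mem_cs.1 (e2 ((m.memV a _).2 ⟨x, hx, rfl⟩)))
  out2 := fun {S} hS y hy hn y2 y' hy' hn' y2' c => by
    obtain ⟨a, rfl⟩ := m.surj hS
    by_cases hL : ρ y ∈ L
    · exact Or.inl (B3p.inner m hy hn y2 hL)
    by_cases hL' : ρ y' ∈ L
    · exact Or.inr (Or.inl (B3p.inner m hy' hn' y2' hL'))
    refine Or.inr (Or.inr (B3p.inner m (mul_mem hy hy') (mul_mem hn hn') ?_ ?_))
    · calc y * y' * (y * y') = y * (y' * y) * y' := by group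
        _ = (y * y) * (y' * y') := by rw [← c]; group
        _ = 1 := by rw [y2, y2', one_mul]
    rw [m.mul y hy y' hy']
    have c' : ρ y * ρ y' = ρ y' * ρ y := by rw [← m.mul y hy y' hy', c, m.mul y' hy' y hy]
    refine m.ben.mul_mem_of_outer (Q := zpowers (ρ y) ⊔ zpowers (ρ y'))
      (IsPGroup.to_sup_of_normal_right' (two_zpowers' (B3p.rsq m hy y2)) (two_zpowers' (B3p.rsq m hy' y2'))
        (le_normalizer_of_le_centralizer (zpowers_le.2 ?_)))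
      (sup_le (zpowers_le.2 (m.nrm y hy)) (zpowers_le.2 (m.nrm y' hy')))
      (mem_sup_left (mem_zpowers _)) (mem_sup_right (mem_zpowers _)) hL hL'
      (by rw [B3p.rsq m hy y2]; exact one_mem _) (by rw [B3p.rsq m hy' y2']; exact one_mem _)
    rw [centralizer_zpowers]
    exact mem_cs.2 c'

end H45.HB
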