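import Cfsg.Agent.Lib.HB.B3

set_option autoImplicit false
set_option linter.unusedSectionVars false

namespace H45.HB

open Subgroup Cfsg H69 H69.SI

universe u v

variable {G : Type u} [Group G] [Finite G] {q : ℕ} {N : Subgroup G}
  {Λ : Type u} [Finite Λ] {L : Subgroup (Equiv.Perm Λ)} {ρ : G → Equiv.Perm Λ} {σ : Λ → Subgroup G}

namespace B4p

theorem rig (h : B0 q N) (h1 : B1 q N) (h2 : B2 q N) (m : Mo N L ρ σ) {S : Subgroup G} (hS : Syl N S)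
    {y : G} (hy : y ∈ 𝐍(N)) (hn : y ∈ 𝐍(S)) (hz : y ∈ 𝐂(zo S))
    (hc : Nat.card S = q ^ 3 → ∀ s ∈ S, y * s * y⁻¹ * s⁻¹ ∈ zo S) : ∃ s ∈ S, s⁻¹ * y ∈ 𝐂(N) := by
  obtain ⟨a, rfl⟩ := m.surj hS
  obtain ⟨b, hb⟩ := m.ben.exists_ne a
  have hne : σ b ≠ σ a := fun e => hb (m.σinj e)
  obtain ⟨s, hs, e⟩ := h1.trans hS (m.syl b) ((m.syl b).cj_of_mem_normalizer hy) hne fun e => hne (by
    rw [← cj_eq_of_mem_normalizer hn] at e; exact cj_inj.1 e)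
  have k1 : s⁻¹ * y ∈ 𝐍(σ b) := cj_eq_self_iff.1 (by rw [← cj_cj, ← e, cj_cj_inv])
  have k2 : s⁻¹ * y ∈ 𝐍(N) := mul_mem (inv_mem (le_normalizer (hS.le hs))) hy
  have k3 : s⁻¹ * y ∈ 𝐍(σ a) := mul_mem (inv_mem (le_normalizer hs)) hn
  have k4 : s⁻¹ * y ∈ 𝐂(zo (σ a)) := mul_mem (inv_mem (le_cent_zo _ hs)) hz
  have k5 : Nat.card (σ a) = q ^ 3 → ∀ s' ∈ σ a, s⁻¹ * y * s' * (s⁻¹ * y)⁻¹ * s'⁻¹ ∈ zo (σ a) := by
    intro c s' hs'
    have := mul_mem (h2.comm hS _ (inv_mem hs) _ (conj_mem_of_mem_normalizer hn hs')) (hc c s' hs')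
    convert this using 1
    group
  refine ⟨s, hs, ?_⟩
  generalize s⁻¹ * y = w at k1 k2 k3 k4 k5
  obtain ⟨t, Q, hQ, hL, ht, e1, e2⟩ := m.ben.su27 hb
  have c1 : Nat.card Q = Nat.card (σ a) := by
    rw [← B1p.cardS m, ← e1, card_map_of_injective L.subtype_injective]
  have c2 : Nat.card (H13.Suz.Q0 Q) = q := by
    rw [← B1p.cardV h m a, ← e2, card_map_of_injective L.subtype_injective]
  have A := H29.Holt.au27 (L := L) ⟨ρ w, m.nrm w k2⟩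
  have ha : ρ w a = a := (m.fix w k2 a).2 k3
  have hb' : ρ w (t • a) = t • a := by rw [ht]; exact (m.fix w k2 b).2 k1
  refine (m.ker w k2).1 (A.eq_one hQ ha hb' ?_)
  by_cases c : Nat.card (σ a) = q ^ 3
  · obtain ⟨E, _, _, _, r, π, U⟩ := H27.BF.exists_UC hQ m.ben.rank2 hL (by rw [c1, c2, c])
    refine A.rigidU hQ m.ben.rank2 hL ha hb' U (by rw [c1, c2, c]) fun x hx => ?_
    refine (U.ln.eq_iff ((A.q hQ m.ben.rank2 ha).2 hx) hx).2 ?_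
    rw [← mem_map_iff_mem L.subtype_injective, e2]
    obtain ⟨s', hs', f⟩ := (m.memS a _).1 (e1.le ⟨x, hx, rfl⟩)
    refine (m.memV a _).2 ⟨_, k5 c s'⁻¹ (inv_mem hs'), ?_⟩
    have n' : s' ∈ 𝐍(N) := le_normalizer (hS.le hs')
    rw [inv_inv, m.mul _ (mul_mem (mul_mem k2 (inv_mem n')) (inv_mem k2)) _ n', B1p.rconj m k2 (inv_mem n'),
      m.inv _ n', f]
    show _ = (ρ w * x * (ρ w)⁻¹)⁻¹ * x
    simp only [coe_subtype]
    group
  · refine A.rigid hQ m.ben.rank2 hL ha hb' (by rw [c1, c2]; exact c) fun v hv => ?_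
    obtain ⟨z, hz', f⟩ := (m.memV a _).1 (e2.le ⟨v, hv, rfl⟩)
    rw [H29.Holt.fix27, mem_cs]
    have := (B3p.comm_iff m (hS.le (zo_le' hz')) k2).2 (k4 z hz')
    rw [f] at this
    exact this

theorem czs (h : B0 q N) (h1 : B1 q N) (h2 : B2 q N) (m : Mo N L ρ σ) {S : Subgroup G} (hS : Syl N S) :
    ∀ y ∈ 𝐍(N), y ∈ 𝐂(S) → ∃ z ∈ zo S, z * y ∈ 𝐂(N) := by
  intro y hy hc
  obtain ⟨s, hs, e⟩ := rig h h1 h2 m hS hy (le_normalizer_of_le_centralizer le_rfl hc)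
    (centralizer_anti zo_le' hc) fun _ s hs => by
      rw [← hc s hs, mul_inv_cancel_right, mul_inv_cancel]; exact one_mem _
  refine ⟨s⁻¹, inv_mem (h2.cen hS s hs ?_), e⟩
  have := mul_mem hc (inv_mem (centralizer_anti hS.le e))
  simpa using this

theorem tor (h : B0 q N) (h1 : B1 q N) (h2 : B2 q N) (m : Mo N L ρ σ) {S S₁ : Subgroup G} (hS : Syl N S)
    (hS₁ : Syl N S₁) (n1 : S₁ ≠ S) (c : Nat.card S ≠ q ^ 3) {t : G} (ht : t ∈ N) (t1 : t ∈ 𝐍(S))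
    (t2 : t ∈ 𝐍(S₁)) (hz : t ∈ 𝐂(zo S)) : t = 1 := by
  obtain ⟨s, hs, e⟩ := rig h h1 h2 m hS (le_normalizer ht) t1 hz fun f => absurd f c
  have := h1.zero _ (mul_mem (inv_mem (hS.le hs)) ht) e
  rw [inv_mul_eq_one] at this
  subst this
  exact h1.reg hS hS₁ n1 _ hs t2

theorem lin (m : Mo N L ρ σ) {S : Subgroup G} (hS : Syl N S) (T : Subgroup G) (hT : T ≤ N)
    (hT' : T ≤ 𝐍(S)) : ∃ (F : Type) (_ : Field F) (α : T →* F), ∀ t : T,
      (α t = 1 → (t : G) ∈ 𝐂(zo S)) ∧ ∀ z ∈ zo S, z ≠ 1 → t * z = z * t → α t = 1 := by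
  obtain ⟨a, rfl⟩ := m.surj hS
  obtain ⟨b, hb⟩ := m.ben.exists_ne a
  obtain ⟨t, Q, hQ, hL, ht, e1, e2⟩ := m.ben.su27 hb
  obtain ⟨F, _, _, _, π, l⟩ := H27.BF.exists_lnV hQ m.ben.rank2 hL
  have n : ∀ t : T, (t : G) ∈ 𝐍(N) := fun t => le_normalizer (hT t.2)
  let r : T →* L := MonoidHom.mk' (fun t => ⟨ρ t, (m.mem _).2 ⟨t, hT t.2, rfl⟩⟩) fun x y =>
    Subtype.ext (m.mul _ (n x) _ (n y))
  have hr : ∀ t : T, r t ∈ MulAction.stabilizer L a := fun t => (m.fix _ (n t) a).2 (hT' t.2)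
  choose α hα using fun t : T => l.sc _ (hr t)
  obtain ⟨x1, hx1, f1⟩ := l.surj 1
  have a1 : α 1 = 1 := by
    have := hα 1 x1 hx1
    rw [map_one, one_mul, inv_one, mul_one, f1, mul_one] at this
    exact this.symm
  have a2 : ∀ x y, α (x * y) = α x * α y := fun x y => by
    have k1 := hα (x * y) x1 hx1
    have k2 := hα x _ (l.norm _ (hr y) x1 hx1)
    rw [hα y x1 hx1, f1, mul_one] at k2
    rw [f1, mul_one, map_mul] at k1
    rw [← k1, ← k2, mul_inv_rev]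
    simp only [mul_assoc]
  have mz : ∀ z ∈ zo (σ a), ∃ v ∈ H13.Suz.Q0 Q, (v : Equiv.Perm Λ) = ρ z := fun z hz =>
    e2.ge ((m.memV a _).2 ⟨z, hz, rfl⟩)
  refine ⟨F, _, ⟨⟨α, a1⟩, a2⟩, fun t => ⟨fun e z hz => ?_, fun z hz z1 c => ?_⟩⟩
  · obtain ⟨v, hv, f⟩ := mz z hz
    have k := hα t v hv
    rw [show α t = 1 from e, one_mul, l.eq_iff (l.norm _ (hr t) v hv) hv, mem_bot, inv_mul_eq_one,
      mul_inv_eq_iff_eq_mul] at k
    refine (B3p.comm_iff m (hS.le (zo_le' hz)) (n t)).1 ?_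
    rw [← f]
    exact (congrArg Subtype.val k).symm
  · obtain ⟨v, hv, f⟩ := mz z hz
    have k := hα t v hv
    have c' := (B3p.comm_iff m (hS.le (zo_le' hz)) (n t)).2 c.symm
    rw [← f] at c'
    have c'' : r t * v = v * r t := Subtype.ext c'.symm
    rw [c'', mul_inv_cancel_right] at k
    have v0 : π v ≠ 0 := fun e => z1 (B1p.rone m (hS.le (zo_le' hz)) (by
      rw [← f, mem_bot.1 ((l.ker v hv).1 e)]; rfl))
    exact (mul_right_cancel₀ v0 (by rw [one_mul]; exact k)).symm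

end B4p

theorem b4_of (h : B0 q N) (h1 : B1 q N) (h2 : B2 q N) (m : Mo N L ρ σ) : B4 q N where
  czv := fun hS _ hy hn hz hc => B4p.rig h h1 h2 m hS hy hn hz fun _ => hc
  cz1 := fun hS c _ hy hn hz => B4p.rig h h1 h2 m hS hy hn hz fun f => absurd f c
  czs := B4p.czs h h1 h2 m
  codd := fun {S} hS y hy hc ho => by
    obtain ⟨z, hz, e⟩ := B4p.czs h h1 h2 m hS y hy hc
    have c : Commute z y := hc z (zo_le' hz)
    have := pow_mem e (orderOf y)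
    obtain ⟨k, hk⟩ := ho
    rw [c.mul_pow, pow_orderOf_eq_one, mul_one, hk, pow_succ, pow_mul, pow_two, zo_sq hz, one_pow,
      one_mul] at this
    rwa [h1.zero z (hS.le (zo_le' hz)) this, one_mul] at e
  cyc := fun {S S₁} hS hS₁ n1 c => by
    obtain ⟨F, _, α, hα⟩ := B4p.lin m hS (N ⊓ 𝐍(S) ⊓ 𝐍(S₁)) (inf_le_left.trans inf_le_left)
      (inf_le_left.trans inf_le_right)
    refine isCyclic_of_injective_ringHom α ((injective_iff_map_eq_one α).2 fun t e => Subtype.ext ?_)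
    exact B4p.tor h h1 h2 m hS hS₁ n1 c (mem_inf.1 (mem_inf.1 t.2).1).1 (mem_inf.1 (mem_inf.1 t.2).1).2
      (mem_inf.1 t.2).2 ((hα t).1 e)
  fpf := fun {S S₁} hS hS₁ n1 c t ht t1 t2 t0 s hs e => by
    by_contra s1
    obtain ⟨F, _, α, hα⟩ := B4p.lin m hS (N ⊓ 𝐍(S)) inf_le_left inf_le_right
    obtain ⟨k, hk⟩ := pow_of_mem hS.isP hs
    obtain ⟨n, f1, f2⟩ := exists_inv_pow s1 hk
    have k := hα ⟨t, mem_inf.2 ⟨ht, t1⟩⟩
    exact t0 (B4p.tor h h1 h2 m hS hS₁ n1 c ht t1 t2 (k.1 (k.2 _ (h.inv hS _ (pow_mem hs n) f2) f1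
      (Commute.pow_right e n))))

end H45.HB
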