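import Cfsg.Agent.Lib.HB.Defs

/-! Basic lemmas for S2208. -/

set_option autoImplicit false
set_option linter.unusedSectionVars false

namespace H45.HB

open Subgroup Cfsg H69 H69.SI

universe u v

variable {G : Type u} [Group G] [Finite G]

/-- if all commutators `[s, a]`, `s ∈ P`, lie in `W` then `|P| ≤ |C_P(a)| |W|` -/
theorem card_le_comm {P W : Subgroup G} {a : G} (h : ∀ s ∈ P, s * a * s⁻¹ * a⁻¹ ∈ W) :
    Nat.card P ≤ Nat.card (P ⊓ 𝐂[a] : Subgroup G) * Nat.card W := by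
  rw [← card_mul_index ((P ⊓ 𝐂[a]).subgroupOf P),
    Nat.card_congr (subgroupOfEquivOfLe (inf_le_left : P ⊓ 𝐂[a] ≤ P)).toEquiv]
  refine Nat.mul_le_mul_left _ (Nat.card_le_card_of_injective
    (fun c : P ⧸ (P ⊓ 𝐂[a]).subgroupOf P => (⟨_, h c.out c.out.2⟩ : W)) fun c d e => ?_)
  rw [← c.out_eq', ← d.out_eq', QuotientGroup.eq, mem_subgroupOf]
  refine ⟨(c.out⁻¹ * d.out).2, mem_cs.2 ?_⟩
  have e' : (c.out : G) * a * (c.out : G)⁻¹ = d.out * a * (d.out : G)⁻¹ :=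
    mul_right_cancel (congrArg Subtype.val e)
  show (c.out : G)⁻¹ * d.out * a = a * ((c.out : G)⁻¹ * d.out)
  calc (c.out : G)⁻¹ * d.out * a = (c.out : G)⁻¹ * (d.out * a * (d.out : G)⁻¹) * d.out := by group
    _ = _ := by rw [← e']; group

/-- if `s` centralises no nontrivial element of `A` and all `[s, a]` lie in `W` then `|A| ≤ |W|` -/
theorem card_le_comm' {A W : Subgroup G} {s : G} (h : ∀ a ∈ A, s * a * s⁻¹ * a⁻¹ ∈ W)
    (hc : ∀ a ∈ A, s * a = a * s → a = 1) : Nat.card A ≤ Nat.card W := by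
  have := card_le_comm (P := A) (W := W) (a := s) fun a ha => by
    simpa [mul_assoc] using inv_mem (h a ha)
  rwa [(eq_bot_iff_forall _).2 fun a (ha : a ∈ A ⊓ 𝐂[s]) => hc a ha.1 (mem_cs.1 ha.2).symm, card_bot,
    one_mul] at this

/-- a 2-group fixes a point of a set of odd size -/
theorem exists_fixed {Ω : Type v} [MulAction G Ω] {P : Subgroup G} (hP : IsPGroup 2 P) {A : Set Ω}
    (ho : Odd A.ncard) (hA : ∀ g ∈ P, ∀ p ∈ A, g • p ∈ A) : ∃ p ∈ A, ∀ g ∈ P, g • p = p := by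
  let B : SubMulAction P Ω := ⟨A, fun g _ hp => hA g g.2 _ hp⟩
  have hf : A.Finite := Set.finite_of_ncard_ne_zero ho.pos.ne'
  haveI : Finite B := hf
  obtain ⟨p, hp⟩ := hP.nonempty_fixed_point_of_prime_not_dvd_card B (by
    rw [← even_iff_two_dvd, Nat.not_even_iff_odd]; exact ho)
  exact ⟨p, p.2, fun g hg => congrArg Subtype.val (hp ⟨g, hg⟩)⟩

namespace Bn
variable {q : ℕ} {N S S' : Subgroup G} (h : Bn q N)
include h

theorem exists_z (hS : Syl N S) : ∃ z ∈ zo S, z ≠ 1 := by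
  by_contra hc
  push Not at hc
  have : zo S = ⊥ := (eq_bot_iff_forall _).2 hc
  have h1 := h.cardZ hS
  rw [this, card_bot] at h1
  have := h.four
  omega

/-- an involution of `N` normalising `S` is central in `S` -/
theorem mem_zo (hS : Syl N S) {x : G} (hx : x ∈ N) (hn : x ∈ 𝐍(S)) (h2 : x * x = 1) : x ∈ zo S :=
  h.inv hS x (mem_syl' hS hx hn h2) h2

theorem exists_zo {x : G} (hx : x ∈ N) (h2 : x * x = 1) : ∃ S, Syl N S ∧ x ∈ zo S := by
  obtain ⟨S, h1, h3⟩ := exists_syl_mem' hx h2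
  exact ⟨S, h1, h.inv h1 x h3 h2⟩

/-- an element normalising `N` and carrying a nontrivial element of `S` into `S` normalises `S` -/
theorem norm_of (hS : Syl N S) {g : G} (hg : g ∈ 𝐍(N)) {x : G} (hx : x ∈ S) (h1 : x ≠ 1)
    (hx' : g * x * g⁻¹ ∈ S) : g ∈ 𝐍(S) :=
  cj_eq_self_iff.1 (h.ti (hS.cj_of_mem_normalizer hg) hS _ (cj_mem g hx) hx' (cj_ne h1 g))

theorem norm_of_comm (hS : Syl N S) {g : G} (hg : g ∈ 𝐍(N)) {x : G} (hx : x ∈ S) (h1 : x ≠ 1)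
    (hc : g * x = x * g) : g ∈ 𝐍(S) :=
  h.norm_of hS hg hx h1 (by rw [hc, mul_inv_cancel_right]; exact hx)

/-- `𝐍(S) = S (𝐍(S) ∩ 𝐍(S'))` -/
theorem dec (hS : Syl N S) (hS' : Syl N S') (hne : S' ≠ S) {y : G} (hy : y ∈ 𝐍(N)) (hyS : y ∈ 𝐍(S)) :
    ∃ s ∈ S, s⁻¹ * y ∈ 𝐍(S') := by
  obtain ⟨s, hs, e⟩ := h.trans hS hS' (hS'.cj_of_mem_normalizer hy) hne fun e => hne (by
    rw [← cj_eq_of_mem_normalizer hyS] at e; exact cj_inj.1 e)
  exact ⟨s, hs, cj_eq_self_iff.1 (by rw [← cj_cj, ← e, cj_cj_inv])⟩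

theorem cent_norm (hS : Syl N S) {c : G} (hc : c ∈ 𝐂(N)) : c ∈ 𝐍(S) :=
  le_normalizer_of_le_centralizer le_rfl (centralizer_anti hS.le hc)

theorem exists_not_norm (hS : Syl N S) : ∃ g ∈ N, g ∉ 𝐍(S) := by
  obtain ⟨S', h1, h2⟩ := h.other hS
  obtain ⟨g, hg, e⟩ := hS.conj h1
  exact ⟨g, hg, fun f => h2 (by rw [← e, cj_eq_of_mem_normalizer f])⟩

theorem zo_eq (hS : Syl N S) (hc : Nat.card S = q) : zo S = S :=
  eq_of_le_of_card_ge zo_le' (by rw [hc, h.cardZ hS])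

theorem q_le (hS : Syl N S) : q ≤ Nat.card S := h.cardZ hS ▸ card_le_of_le zo_le'

end Bn

namespace Pr
variable {q : ℕ} {N S N' S' : Subgroup G} (h : Pr q N S N' S')
include h

theorem comm {r r' : G} (hr : r ∈ S) (hn : r ∈ 𝐍(S')) (hr' : r' ∈ S') (hn' : r' ∈ 𝐍(S)) :
    r * r' = r' * r := by
  have := h.dis (r * r' * r⁻¹ * r'⁻¹) (by
    have := mul_mem hr (conj_mem_of_mem_normalizer hn' (inv_mem hr))
    simpa only [mul_assoc] using this) (mul_mem (conj_mem_of_mem_normalizer hn hr') (inv_mem hr'))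
  calc r * r' = r * r' * r⁻¹ * r'⁻¹ * (r' * r) := by group
    _ = _ := by rw [this, one_mul]

/-- `C_S(r') = N_S(S')` for `1 ≠ r' ∈ N_{S'}(S)` -/
theorem cent {r' s : G} (hr' : r' ∈ S') (hn' : r' ∈ 𝐍(S)) (h1 : r' ≠ 1) (hs : s ∈ S) :
    s * r' = r' * s ↔ s ∈ 𝐍(S') :=
  ⟨fun e => h.ti' s r' hr' (mem_cj.2 (by rw [mul_assoc, ← e, inv_mul_cancel_left]; exact hr')) h1,
    fun e => h.comm hs e hr' hn'⟩

theorem symm : Pr q N' S' N S := by
  refine ⟨h.bn', h.bn, h.syl', h.syl, h.card.symm, h.ti', h.ti, fun x a b => h.dis x b a, ?_⟩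
  obtain ⟨z, hz, h1, hn⟩ := h.adj
  obtain ⟨w0, hw0, hw1⟩ := h.bn'.exists_z h.syl'
  have := inf_centralizer_ne_bot (p := 2) (R := zo S') (T := zpowers z) (h.syl'.isP.to_le zo_le')
    (two_zpowers' (zo_sq hz)) (zpowers_le.2 (nrm_zo hn)) fun e => hw1 (by rwa [e] at hw0)
  obtain ⟨⟨w, hw, hc⟩, hw2⟩ := (ne_bot_iff_exists_ne_one).1 this
  refine ⟨w, hw, fun e => hw2 (Subtype.ext e), h.ti w z (zo_le' hz) (mem_cj.2 ?_) h1⟩
  rw [mul_assoc, hc z (mem_zpowers z), inv_mul_cancel_left]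
  exact zo_le' hz

end Pr

variable {Ω : Type v} [MulAction G Ω]

namespace Cf
variable {q : ℕ} {N : Ω → Subgroup G} (h : Cf q N)
include h

theorem exists_ne (x : Ω) : ∃ y, x ≠ y := by
  obtain ⟨u, v, huv⟩ := h.ne
  by_cases e : x = u
  · exact ⟨v, e ▸ huv⟩
  · exact ⟨u, e⟩

theorem tr (x y : Ω) : ∃ g : G, g • x = y := by
  obtain ⟨x', hx⟩ := h.exists_ne x
  obtain ⟨y', hy⟩ := h.exists_ne y
  obtain ⟨g, hg, -⟩ := h.two x x' y y' hx hy
  exact ⟨g, hg⟩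

theorem norm {g : G} {x : Ω} (hg : g • x = x) : g ∈ 𝐍(N x) :=
  cj_eq_self_iff.1 (by rw [h.conj, hg])

theorem cj_mem {u : G} {x : Ω} (hu : u ∈ N x) (g : G) : g * u * g⁻¹ ∈ N (g • x) :=
  h.conj g x ▸ H69.cj_mem g hu

theorem syl_cj {x : Ω} {S : Subgroup G} (hS : Syl (N x) S) (g : G) : Syl (N (g • x)) (S ^ᶜ g) :=
  h.conj g x ▸ hS.cj g

theorem bk_cj {S : Subgroup G} (hS : Bk N S) (g : G) : Bk N (S ^ᶜ g) :=
  let ⟨_, hp⟩ := hS; ⟨_, h.syl_cj hp g⟩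

theorem cent_cj {c : G} {x : Ω} (hc : c ∈ 𝐂(N x)) (g : G) : g * c * g⁻¹ ∈ 𝐂(N (g • x)) := by
  rw [← h.conj, ← cj_centralizer]; exact H69.cj_mem g hc

theorem mem_FS_self {x : Ω} {S : Subgroup G} (hS : S ≤ N x) : x ∈ (FS S : Set Ω) :=
  fun s hs => h.fix x s (hS hs)

theorem card_syl {x y : Ω} {S S' : Subgroup G} (hS : Syl (N x) S) (hS' : Syl (N y) S') :
    Nat.card S = Nat.card S' := by
  obtain ⟨g, rfl⟩ := h.tr x y
  rw [← (h.syl_cj hS g).card_eq hS', card_cj]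

theorem moves {x y : Ω} (hxy : x ≠ y) : ∃ g ∈ N x, g • y ≠ y := by
  by_contra hc
  push Not at hc
  obtain ⟨S, hS⟩ := exists_isSylowIn 2 (N x)
  obtain ⟨z, hz, hz1⟩ := (h.bn x).exists_z hS
  refine hz1 (h.faith z fun p => ?_)
  by_cases e : x = p
  · subst e; exact h.fix _ _ (hS.le (zo_le' hz))
  · obtain ⟨g, hg1, hg2⟩ := h.two x y x p hxy e
    have := hc _ (conj_mem_of_mem_normalizer' (h.norm hg1) (hS.le (zo_le' hz)))
    rwa [mul_smul, mul_smul, hg2, inv_smul_eq_iff, hg2] at this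

/-- `C_G(N x)` fixes `x` -/
theorem cent_fix {c : G} {x : Ω} (hc : c ∈ 𝐂(N x)) : c • x = x := by
  by_contra e
  obtain ⟨g, hg, hm⟩ := h.moves (Ne.symm e)
  exact hm (by rw [← mul_smul, hc g hg, mul_smul, h.fix x g hg])

theorem uniq {x y : Ω} (hxy : x ≠ y) {S S' : Subgroup G} (hS : Syl (N x) S) (hS' : Syl (N x) S')
    (hy : y ∈ (FS S : Set Ω)) (hy' : y ∈ (FS S' : Set Ω)) : S' = S := by
  by_contra e
  obtain ⟨g, hg, hm⟩ := h.moves hxy
  rw [← (h.bn x).gen hS hS' e] at hg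
  exact hm ((sup_le (fun s hs => hy s hs) (fun s hs => hy' s hs) :
    S ⊔ S' ≤ MulAction.stabilizer G y) hg)

theorem card_stab {x y x' y' : Ω} (h1 : x ≠ y) (h2 : x' ≠ y') :
    Nat.card (N x ⊓ MulAction.stabilizer G y : Subgroup G) =
      Nat.card (N x' ⊓ MulAction.stabilizer G y' : Subgroup G) := by
  obtain ⟨g, rfl, rfl⟩ := h.two x y x' y' h1 h2
  rw [← card_cj _ g, cj_inf, h.conj]
  congr 2
  ext k
  rw [mem_inf, mem_inf, mem_cj, MulAction.mem_stabilizer_iff, MulAction.mem_stabilizer_iff, mul_smul,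
    mul_smul, inv_smul_eq_iff]

theorem xe_or_xo : XE N ∨ XO N := by
  refine or_iff_not_imp_right.2 fun hc x y hxy => ?_
  simp only [XO, not_forall] at hc
  obtain ⟨a, b, hab, u, hu, h2, hb, h1⟩ := hc
  obtain ⟨g, rfl, rfl⟩ := h.two a b x y hab hxy
  exact ⟨_, h.cj_mem hu g, cj_sq h2 g, cj_ne h1 g, cj_smul hb⟩

theorem de_or_do : DE N ∨ DO N := by
  refine or_iff_not_imp_right.2 fun hc x y hxy => ?_
  simp only [DO, not_forall] at hc
  obtain ⟨a, b, hab, u, hu, h2, hb, h1⟩ := hc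
  obtain ⟨g, rfl, rfl⟩ := h.two a b x y hab hxy
  exact ⟨_, h.cj_mem hu g, cj_sq h2 g, cj_ne h1 g, h.cj_mem hb g⟩

theorem zz_or_nz : ZZ N ∨ NZ N := by
  refine or_iff_not_imp_right.2 fun hc x y hxy => ?_
  simp only [NZ, not_forall, not_not] at hc
  obtain ⟨a, b, hab, S, hS, hb⟩ := hc
  obtain ⟨g, rfl, rfl⟩ := h.two a b x y hab hxy
  exact ⟨_, h.syl_cj hS g, cj_zo S g ▸ (smul_mem_FS g).2 hb⟩

theorem one_or_two : One N ∨ Two N := by
  refine or_iff_not_imp_right.2 fun hc x y hxy => ?_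
  simp only [Two, not_forall, not_exists, not_and, not_not] at hc
  obtain ⟨a, b, hab, S, hS, hb⟩ := hc
  obtain ⟨g, rfl, rfl⟩ := h.two a b x y hab hxy
  refine ⟨_, h.syl_cj hS g, fun u hu h2 hy => ?_⟩
  rw [← cj_zo, mem_cj]
  have := h.cj_mem hu g⁻¹
  rw [inv_smul_smul, inv_inv] at this
  refine hb _ this (by simpa using cj_sq h2 g⁻¹) ?_
  rw [mul_smul, mul_smul, hy, inv_smul_smul]

theorem _root_.H45.HB.KK.zz (hK : KK N) : ZZ N := fun x y hxy =>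
  let ⟨S, a, b⟩ := hK x y hxy; ⟨S, a, FS_anti zo_le' b⟩

/-- in the case `DO` an involution of `N y` determines `y` -/
theorem centre (hD : DO N) {y : Ω} {u g : G} (hu : u ∈ N y) (h2 : u * u = 1) (h1 : u ≠ 1)
    (hc : g * u = u * g) : g • y = y := by
  by_contra e
  have := h.cj_mem hu g
  rw [hc, mul_inv_cancel_right] at this
  exact h1 (hD _ _ e u this h2 hu)

/-- an element centralising `N x` and fixing `FS (zo S)` pointwise is trivial -/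
theorem cover (hZ : ZZ N) {x : Ω} {S : Subgroup G} (hS : Syl (N x) S) {c : G} (hc : c ∈ 𝐂(N x))
    (hf : ∀ y ∈ (FS (zo S) : Set Ω), c • y = y) : c = 1 := by
  refine h.faith c fun p => ?_
  by_cases e : x = p
  · exact e ▸ h.cent_fix hc
  obtain ⟨S', hS', hp⟩ := hZ x p e
  obtain ⟨g, hg, rfl⟩ := hS.conj hS'
  rw [← cj_zo, mem_FS_cj] at hp
  have := hf _ hp
  rwa [← mul_smul, ← hc _ (inv_mem hg), mul_smul, smul_left_cancel_iff] at this

/-- the same for `FS S` -/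
theorem cover' (hK : KK N) {x : Ω} {S : Subgroup G} (hS : Syl (N x) S) {c : G} (hc : c ∈ 𝐂(N x))
    (hf : ∀ y ∈ (FS S : Set Ω), c • y = y) : c = 1 := by
  refine h.faith c fun p => ?_
  by_cases e : x = p
  · exact e ▸ h.cent_fix hc
  obtain ⟨S', hS', hp⟩ := hK x p e
  obtain ⟨g, hg, rfl⟩ := hS.conj hS'
  rw [mem_FS_cj] at hp
  have := hf _ hp
  rwa [← mul_smul, ← hc _ (inv_mem hg), mul_smul, smul_left_cancel_iff] at this

/-- in the case `KK`: a 2-element of `N x` fixing `y` lies in the Sylow subgroup fixing `y`,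
and `G_{x y}` normalises that subgroup -/
theorem kk_norm {x y : Ω} (hxy : x ≠ y) {S : Subgroup G} (hS : Syl (N x) S)
    (hy : y ∈ (FS S : Set Ω)) {g : G} (h1 : g • x = x) (h2 : g • y = y) : g ∈ 𝐍(S) :=
  cj_eq_self_iff.1 (h.uniq hxy hS (hS.cj_of_mem_normalizer (h.norm h1)) hy
    (h2 ▸ (smul_mem_FS g).2 hy))

theorem kk_mem {x y : Ω} (hxy : x ≠ y) {S : Subgroup G} (hS : Syl (N x) S)
    (hy : y ∈ (FS S : Set Ω)) {g : G} (hg : g ∈ N x) (h2 : g • y = y) {k : ℕ} (hk : g ^ 2 ^ k = 1) :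
    g ∈ S := mem_syl hS hg (h.kk_norm hxy hS hy (h.fix x g hg) h2) hk

end Cf

end H45.HB
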