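import Mathlib
import Cfsg.Prelude.Def_Quasithin
import Cfsg.Agent.Lib.SylInt.Ess
import Cfsg.Agent.Lib.LocStruct.Res
import Cfsg.Agent.Lib.Holt.Defs

/-! Definitions for S2208 (2-transitive groups with a normal `L₂(q)`, `Sz(q)` or `U₃(q)`, `q` even,
in the point stabiliser).  See `blueprint/HB/README.md`. -/

set_option autoImplicit false

namespace H45.HB

open Subgroup Cfsg H69 H69.SI

universe u v

variable {G : Type u} [Group G]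

/-- Sylow 2-subgroup of `N`, in the ambient group -/
abbrev Syl (N S : Subgroup G) : Prop := IsSylowIn 2 S N

/-- primitive data of a Bender group -/
structure B0 (q : ℕ) (N : Subgroup G) : Prop where
  bg : IsBenderGroup N
  simple : IsSimpleGroup N
  nab : ¬ IsMulCommutative N
  four : 4 ≤ q
  cardZ : ∀ {S}, Syl N S → Nat.card (zo S) = q
  inv : ∀ {S}, Syl N S → ∀ x ∈ S, x * x = 1 → x ∈ zo S
  ti : ∀ {S S'}, Syl N S → Syl N S' → ∀ x ∈ S, x ∈ S' → x ≠ 1 → S = S'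
  other : ∀ {S}, Syl N S → ∃ S', Syl N S' ∧ S' ≠ S

/-- the doubly transitive action on the Sylow 2-subgroups -/
structure B1 (q : ℕ) (N : Subgroup G) : Prop where
  pow : ∃ m, 2 ≤ m ∧ q = 2 ^ m
  zero : ∀ h ∈ N, h ∈ 𝐂(N) → h = 1
  norm : ∀ K ≤ N, N ≤ 𝐍(K) → K = ⊥ ∨ K = N
  trans : ∀ {S S₁ S₂}, Syl N S → Syl N S₁ → Syl N S₂ → S₁ ≠ S → S₂ ≠ S → ∃ s ∈ S, S₁ ^ᶜ s = S₂
  reg : ∀ {S S₁}, Syl N S → Syl N S₁ → S₁ ≠ S → ∀ s ∈ S, s ∈ 𝐍(S₁) → s = 1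
  gen : ∀ {S S₁}, Syl N S → Syl N S₁ → S₁ ≠ S → S ⊔ S₁ = N
  nsyl : ∀ {S}, Syl N S → Set.ncard {S' | Syl N S'} = Nat.card S + 1
  ztr : ∀ {S S₁}, Syl N S → Syl N S₁ → S₁ ≠ S → ∀ u ∈ zo S, u ≠ 1 → ∀ v ∈ zo S, v ≠ 1 →
    ∃ t ∈ N, t ∈ 𝐍(S) ∧ t ∈ 𝐍(S₁) ∧ t * u * t⁻¹ = v
  oddT : ∀ {S S₁}, Syl N S → Syl N S₁ → S₁ ≠ S → ∀ t ∈ N, t ∈ 𝐍(S) → t ∈ 𝐍(S₁) → Odd (orderOf t)
  oddP : ∀ {S S₁}, Syl N S → Syl N S₁ → S₁ ≠ S → ∀ u ∈ zo S, u ≠ 1 → ∀ v ∈ zo S₁, v ≠ 1 →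
    Odd (orderOf (u * v)) ∧ ∃ g ∈ closure ({u, v} : Set G), g * u * g⁻¹ = v
  invc : ∀ u ∈ N, u * u = 1 → u ≠ 1 → ∀ v ∈ N, v * v = 1 → v ≠ 1 → ∃ g ∈ N, g * u * g⁻¹ = v
  ninv : ∀ {S}, Syl N S →
    Set.ncard {u | u ∈ N ∧ u * u = 1 ∧ u ≠ 1} = (q - 1) * (Nat.card S + 1)

/-- the structure of a Sylow 2-subgroup -/
structure B2 (q : ℕ) (N : Subgroup G) : Prop where
  cases : ∀ {S}, Syl N S → Nat.card S = q ∨ (Nat.card S = q ^ 2 ∧ 8 ≤ q) ∨ Nat.card S = q ^ 3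
  sq : ∀ {S}, Syl N S → ∀ s ∈ S, s * s ∈ zo S
  comm : ∀ {S}, Syl N S → ∀ s ∈ S, ∀ s' ∈ S, s * s' * s⁻¹ * s'⁻¹ ∈ zo S
  cen : ∀ {S}, Syl N S → ∀ s ∈ S, s ∈ 𝐂(S) → s ∈ zo S
  irr : ∀ {S}, Syl N S → ∀ W : Subgroup G, zo S ≤ W → W ≤ S →
    (∀ g ∈ N, g ∈ 𝐍(S) → g ∈ 𝐍(W)) → W = zo S ∨ W = S
  fib : ∀ {S}, Syl N S → ∀ u ∈ zo S, u ≠ 1 →
    (q - 1) * Set.ncard {s | s ∈ S ∧ s * s = u} + q = Nat.card S

/-- involutory automorphisms -/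
structure B3 (q : ℕ) (N : Subgroup G) : Prop where
  out : ∀ {S}, Syl N S → ∀ y ∈ 𝐍(N), y ∈ 𝐍(S) → y * y = 1 → (∃ z ∈ zo S, z * y ∈ 𝐂(N)) ∨
    ((∃ S', Syl N S' ∧ S' ≠ S ∧ y ∈ 𝐍(S')) ∧
      ((Nat.card S = q ∧ Nat.card (zo S ⊓ 𝐂[y] : Subgroup G) ^ 2 = q) ∨
        (Nat.card S = q ^ 3 ∧ y ∈ 𝐂(zo S))))
  out2 : ∀ {S}, Syl N S → ∀ y ∈ 𝐍(N), y ∈ 𝐍(S) → y * y = 1 → ∀ y' ∈ 𝐍(N), y' ∈ 𝐍(S) →
    y' * y' = 1 → y * y' = y' * y → (∃ z ∈ zo S, z * y ∈ 𝐂(N)) ∨ (∃ z ∈ zo S, z * y' ∈ 𝐂(N)) ∨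
      ∃ z ∈ zo S, z * (y * y') ∈ 𝐂(N)

/-- automorphisms that are trivial on the factors of a Sylow 2-subgroup; the torus -/
structure B4 (q : ℕ) (N : Subgroup G) : Prop where
  czv : ∀ {S}, Syl N S → ∀ y ∈ 𝐍(N), y ∈ 𝐍(S) → y ∈ 𝐂(zo S) →
    (∀ s ∈ S, y * s * y⁻¹ * s⁻¹ ∈ zo S) → ∃ s ∈ S, s⁻¹ * y ∈ 𝐂(N)
  cz1 : ∀ {S}, Syl N S → Nat.card S ≠ q ^ 3 → ∀ y ∈ 𝐍(N), y ∈ 𝐍(S) → y ∈ 𝐂(zo S) →
    ∃ s ∈ S, s⁻¹ * y ∈ 𝐂(N)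
  czs : ∀ {S}, Syl N S → ∀ y ∈ 𝐍(N), y ∈ 𝐂(S) → ∃ z ∈ zo S, z * y ∈ 𝐂(N)
  codd : ∀ {S}, Syl N S → ∀ y ∈ 𝐍(N), y ∈ 𝐂(S) → Odd (orderOf y) → y ∈ 𝐂(N)
  cyc : ∀ {S S₁}, Syl N S → Syl N S₁ → S₁ ≠ S → Nat.card S ≠ q ^ 3 →
    IsCyclic (N ⊓ 𝐍(S) ⊓ 𝐍(S₁) : Subgroup G)
  fpf : ∀ {S S₁}, Syl N S → Syl N S₁ → S₁ ≠ S → Nat.card S ≠ q ^ 3 → ∀ t ∈ N, t ∈ 𝐍(S) →
    t ∈ 𝐍(S₁) → t ≠ 1 → ∀ s ∈ S, t * s = s * t → s = 1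

/-- two facts read off the matrix groups -/
structure B5 (q : ℕ) (N : Subgroup G) : Prop where
  cube : ∀ {S}, Syl N S → Nat.card S = q ^ 3 → ∀ s ∈ S, s ∉ zo S →
    Nat.card (S ⊓ 𝐂[s] : Subgroup G) ≤ q ^ 2
  psl : ∀ {S}, Syl N S → Nat.card S = q → Nat.card N = q * (q ^ 2 - 1) ∧
    ∃ (F : Type) (_ : Field F) (_ : Fintype F), Fintype.card F = q ∧
      Nonempty (N ≃* Matrix.ProjectiveSpecialLinearGroup (Fin 2) F)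

structure Bn (q : ℕ) (N : Subgroup G) : Prop extends B0 q N, B1 q N, B2 q N, B3 q N, B4 q N, B5 q N

/-- the permutation model on the Sylow 2-subgroups (`ρ` matters on `𝐍(N)` only) -/
structure Mo (N : Subgroup G) {Λ : Type u} (L : Subgroup (Equiv.Perm Λ)) (ρ : G → Equiv.Perm Λ)
    (σ : Λ → Subgroup G) : Prop where
  ben : H29.Holt.IsBen L
  mul : ∀ x ∈ 𝐍(N), ∀ y ∈ 𝐍(N), ρ (x * y) = ρ x * ρ y
  one : ρ 1 = 1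
  inv : ∀ x ∈ 𝐍(N), ρ x⁻¹ = (ρ x)⁻¹
  ker : ∀ x ∈ 𝐍(N), ρ x = 1 ↔ x ∈ 𝐂(N)
  inj : ∀ x ∈ N, ∀ y ∈ N, ρ x = ρ y → x = y
  mem : ∀ l, l ∈ L ↔ ∃ x ∈ N, ρ x = l
  nrm : ∀ x ∈ 𝐍(N), ρ x ∈ 𝐍(L)
  syl : ∀ a, Syl N (σ a)
  surj : ∀ {S}, Syl N S → ∃ a, σ a = S
  σinj : Function.Injective σ
  act : ∀ x ∈ 𝐍(N), ∀ a, σ (ρ x a) = σ a ^ᶜ x
  fix : ∀ x ∈ 𝐍(N), ∀ a, ρ x a = a ↔ x ∈ 𝐍(σ a)
  memS : ∀ a l, l ∈ H29.Holt.Sb L a ↔ ∃ x ∈ σ a, ρ x = l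
  memV : ∀ a l, l ∈ H29.Holt.Vb L a ↔ ∃ x ∈ zo (σ a), ρ x = l
  card : ∀ (A : Subgroup G) (A' : Subgroup (Equiv.Perm Λ)), A ≤ N →
    (∀ l, l ∈ A' ↔ ∃ x ∈ A, ρ x = l) → Nat.card A' = Nat.card A

/-- two TI-groups `S`, `S'` with a central involution of `S` normalising `S'` -/
structure Pr (q : ℕ) (N S N' S' : Subgroup G) : Prop where
  bn : Bn q N
  bn' : Bn q N'
  syl : Syl N S
  syl' : Syl N' S'
  card : Nat.card S = Nat.card S'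
  ti : ∀ g : G, ∀ x ∈ S, x ∈ S ^ᶜ g → x ≠ 1 → g ∈ 𝐍(S)
  ti' : ∀ g : G, ∀ x ∈ S', x ∈ S' ^ᶜ g → x ≠ 1 → g ∈ 𝐍(S')
  dis : ∀ x ∈ S, x ∈ S' → x = 1
  adj : ∃ z ∈ zo S, z ≠ 1 ∧ z ∈ 𝐍(S')

/-- fixed points of an element -/
def Fx {Ω : Type v} [MulAction G Ω] (g : G) : Set Ω := {p | g • p = p}

/-- fixed points of a subgroup -/
def FS {Ω : Type v} [MulAction G Ω] (E : Subgroup G) : Set Ω := {p | ∀ h ∈ E, h • p = p}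

variable {Ω : Type v} [MulAction G Ω]

/-- the basic configuration -/
structure Cf (q : ℕ) (N : Ω → Subgroup G) : Prop where
  two : ∀ x y x' y' : Ω, x ≠ y → x' ≠ y' → ∃ g : G, g • x = x' ∧ g • y = y'
  faith : ∀ g : G, (∀ x : Ω, g • x = x) → g = 1
  ne : ∃ x y : Ω, x ≠ y
  conj : ∀ (g : G) (x : Ω), N x ^ᶜ g = N (g • x)
  fix : ∀ x, ∀ h ∈ N x, h • x = x
  bn : ∀ x, Bn q (N x)

/-- `N x ∩ G_y` has even order -/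
def XE (N : Ω → Subgroup G) : Prop :=
  ∀ x y, x ≠ y → ∃ u ∈ N x, u * u = 1 ∧ u ≠ 1 ∧ u • y = y

/-- `N x ∩ G_y` has odd order -/
def XO (N : Ω → Subgroup G) : Prop :=
  ∀ x y, x ≠ y → ∀ u ∈ N x, u * u = 1 → u • y = y → u = 1

/-- `N x ∩ N y` has even order -/
def DE (N : Ω → Subgroup G) : Prop :=
  ∀ x y, x ≠ y → ∃ u ∈ N x, u * u = 1 ∧ u ≠ 1 ∧ u ∈ N y

/-- `N x ∩ N y` has odd order -/
def DO (N : Ω → Subgroup G) : Prop :=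
  ∀ x y, x ≠ y → ∀ u ∈ N x, u * u = 1 → u ∈ N y → u = 1

/-- `N x ∩ G_y` contains a Sylow 2-subgroup of `N x` -/
def KK (N : Ω → Subgroup G) : Prop := ∀ x y, x ≠ y → ∃ S, Syl (N x) S ∧ y ∈ FS S

/-- `N x ∩ G_y` contains the centre of a Sylow 2-subgroup of `N x` -/
def ZZ (N : Ω → Subgroup G) : Prop := ∀ x y, x ≠ y → ∃ S, Syl (N x) S ∧ y ∈ FS (zo S)

def NZ (N : Ω → Subgroup G) : Prop := ∀ x y, x ≠ y → ∀ S, Syl (N x) S → y ∉ FS (zo S)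

/-- the involutions of `N x ∩ G_y` lie in one Sylow 2-subgroup of `N x` -/
def One (N : Ω → Subgroup G) : Prop :=
  ∀ x y, x ≠ y → ∃ S, Syl (N x) S ∧ ∀ u ∈ N x, u * u = 1 → u • y = y → u ∈ zo S

def Two (N : Ω → Subgroup G) : Prop :=
  ∀ x y, x ≠ y → ∀ S, Syl (N x) S → ∃ u ∈ N x, u * u = 1 ∧ u • y = y ∧ u ∉ zo S

/-- involutions of `N y` fixing `x` lie in `N x` -/
def P2 (N : Ω → Subgroup G) : Prop := ∀ x y, ∀ u ∈ N y, u * u = 1 → u • x = x → u ∈ N x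

/-- a Sylow 2-subgroup of `N x` fixing `y` is one of `N y` -/
def Sym (N : Ω → Subgroup G) : Prop := ∀ x S, Syl (N x) S → ∀ y ∈ (FS S : Set Ω), Syl (N y) S

/-- block group -/
def Bk (N : Ω → Subgroup G) (S : Subgroup G) : Prop := ∃ p, Syl (N p) S

/-- the block design of the even case: the blocks are the sets `FS S`, `S` a block group -/
structure Ev0 (q Q μ : ℕ) (N : Ω → Subgroup G) : Prop extends Cf q N where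
  cardS : ∀ {S}, Bk N S → Nat.card S = Q
  join : KK N
  sym : ∀ {S}, Bk N S → ∀ y ∈ (FS S : Set Ω), Syl (N y) S
  uniq : ∀ {S S'}, Bk N S → Bk N S' → ∀ x y : Ω, x ≠ y → x ∈ FS S → y ∈ FS S → x ∈ FS S' →
    y ∈ FS S' → S = S'
  semi : ∀ {S}, Bk N S → ∀ s ∈ S, s ≠ 1 → ∀ y : Ω, s • y = y → y ∈ FS S
  ti : ∀ {S S'}, Bk N S → Bk N S' → ∀ s ∈ S, s ∈ S' → s ≠ 1 → S = S'
  cardD : ∀ {S}, Bk N S → Set.ncard (FS S : Set Ω) = μ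
  two_le : 2 ≤ μ
  cardΩ : Nat.card Ω = 1 + (μ - 1) * (Q + 1)
  cfix : ∀ {x S}, Syl (N x) S → ∀ c ∈ 𝐂(N x), (∀ y ∈ (FS S : Set Ω), c • y = y) → c = 1
  disj : ∀ {S S'}, Bk N S → Bk N S' → S' ≠ S → ∀ s ∈ S, s ≠ 1 → s ∈ 𝐍(S') →
    Disjoint (FS S : Set Ω) (FS S')

structure Ev (q Q μ : ℕ) (N : Ω → Subgroup G) : Prop extends Ev0 q Q μ N where
  le_mu : ∀ {S S'}, Bk N S → Bk N S' → S' ≠ S → Nat.card (S ⊓ 𝐍(S') : Subgroup G) ≤ μ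
  nadj : ∀ {S}, Bk N S → ∀ z ∈ zo S, z ≠ 1 →
    Set.ncard {S' | Bk N S' ∧ S' ≠ S ∧ z ∈ 𝐍(S')} * μ = (μ - 1) * Q
  dvd : μ ∣ Q
  pr : ∀ {x y S S'}, Syl (N x) S → Syl (N y) S' → S' ≠ S → ∀ z ∈ zo S, z ≠ 1 → z ∈ 𝐍(S') →
    Pr q (N x) S (N y) S'

/-- `N a` is transitive on the other points of a block through `a` -/
def Tr (N : Ω → Subgroup G) : Prop :=
  ∀ a S, Syl (N a) S → ∀ b ∈ (FS S : Set Ω), ∀ b' ∈ (FS S : Set Ω), b ≠ a → b' ≠ a →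
    ∃ t ∈ N a, t • b = b'

/-- the Suzuki configuration -/
def SzC (N : Ω → Subgroup G) : Prop :=
  ∀ S S', Bk N S → Bk N S' → S' ≠ S → ∀ z ∈ zo S, z ≠ 1 → z ∈ 𝐍(S') → S ⊓ 𝐍(S') = zo S

/-- parallel blocks -/
def Pl (Ω : Type v) [MulAction G Ω] (S S' : Subgroup G) : Prop :=
  S = S' ∨ Disjoint (FS S : Set Ω) (FS S')

/-- the affine plane -/
structure Pa (N : Ω → Subgroup G) : Prop where
  ex : ∀ {S}, Bk N S → ∀ c : Ω, ∃ S', Bk N S' ∧ c ∈ FS S' ∧ Pl Ω S S'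
  tr : ∀ {S S' S''}, Bk N S → Bk N S' → Bk N S'' → Pl Ω S S' → Pl Ω S S'' → Pl Ω S' S''
  nrm : ∀ {S S'}, Bk N S → Bk N S' → Pl Ω S S' → S ≤ 𝐍(S')
  cen : ∀ {S S'}, Bk N S → Bk N S' → Disjoint (FS S : Set Ω) (FS S') → S ≤ 𝐂(S')
  reg : ∀ {S S'}, Bk N S → Bk N S' → Disjoint (FS S : Set Ω) (FS S') →
    ∀ x ∈ (FS S' : Set Ω), ∀ y ∈ (FS S' : Set Ω), ∃ s ∈ S, s • x = y
  third : ∀ {S S'}, Bk N S → Bk N S' → ∃ c : Ω, c ∉ FS S ∧ c ∉ FS S'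

/-- a regular normal subgroup -/
def Reg (G : Type u) [Group G] (Ω : Type v) [MulAction G Ω] : Prop :=
  ∃ R : Subgroup G, R.Normal ∧ (∀ x y : Ω, ∃ r ∈ R, r • x = y) ∧ ∀ x : Ω, ∀ r ∈ R, r • x = x → r = 1

/-- odd degree, `L` the simple socle -/
structure Od (q : ℕ) (N : Ω → Subgroup G) (L : Subgroup G) : Prop extends Cf q N where
  odd : Odd (Nat.card Ω)
  p2 : P2 N
  normal : L.Normal
  simple : IsSimpleGroup L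
  nab : ¬ IsMulCommutative L
  tr : ∀ x y : Ω, ∃ l ∈ L, l • x = y

/-- odd degree after Glauberman and Goldschmidt -/
structure Od2 (q : ℕ) (N : Ω → Subgroup G) (L : Subgroup G) : Prop extends Od q N L where
  le : ∀ x, N x ≤ L
  sylL : ∀ {x S}, Syl (N x) S → Syl L S
  cardS : ∀ {x S}, Syl (N x) S → Nat.card S = q
  q48 : q = 4 ∨ q = 8
  invs : ∀ u ∈ L, u * u = 1 → ∃ p, u ∈ N p

theorem mem_FS {E : Subgroup G} {p : Ω} : p ∈ (FS E : Set Ω) ↔ ∀ h ∈ E, h • p = p := Iff.rfl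

theorem mem_Fx {g : G} {p : Ω} : p ∈ (Fx g : Set Ω) ↔ g • p = p := Iff.rfl

theorem smul_mem_FS {E : Subgroup G} {p : Ω} (g : G) :
    g • p ∈ (FS (E ^ᶜ g) : Set Ω) ↔ p ∈ (FS E : Set Ω) := by
  constructor
  · intro h x hx
    have := h _ (cj_mem g hx)
    rwa [mul_smul, mul_smul, inv_smul_smul, smul_left_cancel_iff] at this
  · rintro h _ ⟨x, hx, rfl⟩
    show (g * x * g⁻¹) • g • p = g • p
    rw [mul_smul, mul_smul, inv_smul_smul, h x hx]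

theorem mem_FS_cj {E : Subgroup G} {p : Ω} {g : G} :
    p ∈ (FS (E ^ᶜ g) : Set Ω) ↔ g⁻¹ • p ∈ (FS E : Set Ω) := by
  rw [← smul_mem_FS (E := E) (p := g⁻¹ • p) g, smul_inv_smul]

theorem smul_mem_FS_of_norm {E : Subgroup G} {p : Ω} {g : G} (hg : g ∈ 𝐍(E))
    (hp : p ∈ (FS E : Set Ω)) : g • p ∈ (FS E : Set Ω) := by
  rw [← cj_eq_of_mem_normalizer hg]; exact (smul_mem_FS g).2 hp

theorem FS_anti {E E' : Subgroup G} (h : E ≤ E') : (FS E' : Set Ω) ⊆ FS E :=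
  fun _ hp x hx => hp x (h hx)

theorem mem_cs {x y : G} : x ∈ 𝐂[y] ↔ x * y = y * x := mem_centralizer_singleton_iff

theorem zo_le' {S : Subgroup G} : zo S ≤ S := fun _ h => h.1.1

theorem zo_sq {S : Subgroup G} {z : G} (h : z ∈ zo S) : z * z = 1 := h.2

theorem zo_inv {S : Subgroup G} {z : G} (h : z ∈ zo S) : z⁻¹ = z :=
  inv_eq_of_mul_eq_one_right h.2

theorem zo_comm {S : Subgroup G} {z s : G} (h : z ∈ zo S) (hs : s ∈ S) : s * z = z * s :=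
  h.1.2 s hs

theorem cj_zo (S : Subgroup G) (g : G) : zo S ^ᶜ g = zo (S ^ᶜ g) := by
  ext x
  rw [mem_cj, mem_zo, mem_zo, ← cj_centralizer, ← cj_inf, mem_cj]
  refine and_congr_right fun _ => ⟨fun h => ?_, fun h => ?_⟩
  · calc x * x = g * (g⁻¹ * x * g * (g⁻¹ * x * g)) * g⁻¹ := by group
      _ = 1 := by rw [h]; group
  · calc g⁻¹ * x * g * (g⁻¹ * x * g) = g⁻¹ * (x * x) * g := by group
      _ = 1 := by rw [h]; group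

theorem nrm_zo {S : Subgroup G} {g : G} (h : g ∈ 𝐍(S)) : g ∈ 𝐍(zo S) := norm_zo S h

theorem cj_sq {u : G} (h : u * u = 1) (g : G) : g * u * g⁻¹ * (g * u * g⁻¹) = 1 := by
  calc g * u * g⁻¹ * (g * u * g⁻¹) = g * (u * u) * g⁻¹ := by group
    _ = 1 := by rw [h]; group

theorem cj_ne {u : G} (h : u ≠ 1) (g : G) : g * u * g⁻¹ ≠ 1 := fun e => h (by simpa using e)

theorem cj_smul {u g : G} {y : Ω} (h : u • y = y) : (g * u * g⁻¹) • g • y = g • y := by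
  rw [mul_smul, mul_smul, inv_smul_smul, h]

theorem two_zpowers {u : G} {k : ℕ} (h : u ^ 2 ^ k = 1) : IsPGroup 2 (zpowers u) := by
  rintro ⟨_, n, rfl⟩
  exact ⟨k, Subtype.ext (by
    show (u ^ n) ^ 2 ^ k = 1
    rw [← zpow_natCast, ← zpow_mul, mul_comm, zpow_mul, zpow_natCast, h, one_zpow])⟩

theorem two_zpowers' {u : G} (h : u * u = 1) : IsPGroup 2 (zpowers u) :=
  two_zpowers (k := 1) (by rw [pow_one, pow_two, h])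

theorem pow_of_mem {P : Subgroup G} (hP : IsPGroup 2 P) {x : G} (hx : x ∈ P) : ∃ k, x ^ 2 ^ k = 1 := by
  obtain ⟨k, hk⟩ := hP ⟨x, hx⟩
  exact ⟨k, congrArg Subtype.val hk⟩

/-- a 2-element of `N` normalising a Sylow 2-subgroup lies in it -/
theorem mem_syl {N S : Subgroup G} (h : Syl N S) {x : G} (hx : x ∈ N) (hn : x ∈ 𝐍(S)) {k : ℕ}
    (h2 : x ^ 2 ^ k = 1) : x ∈ S :=
  h.le_of_le_normalizer' (two_zpowers h2) (zpowers_le.2 hx) (zpowers_le.2 hn) (mem_zpowers x)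

theorem mem_syl' {N S : Subgroup G} (h : Syl N S) {x : G} (hx : x ∈ N) (hn : x ∈ 𝐍(S))
    (h2 : x * x = 1) : x ∈ S := mem_syl h hx hn (k := 1) (by rw [pow_one, pow_two, h2])

theorem exists_syl_mem {N : Subgroup G} {x : G} (hx : x ∈ N) {k : ℕ} (h2 : x ^ 2 ^ k = 1) :
    ∃ S, Syl N S ∧ x ∈ S := by
  obtain ⟨S, h1, h3⟩ := exists_isSylowIn_le (two_zpowers h2) (zpowers_le.2 hx)
  exact ⟨S, h1, h3 (mem_zpowers x)⟩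

theorem exists_syl_mem' {N : Subgroup G} {x : G} (hx : x ∈ N) (h2 : x * x = 1) :
    ∃ S, Syl N S ∧ x ∈ S := exists_syl_mem hx (k := 1) (by rw [pow_one, pow_two, h2])

/-- a nontrivial 2-element has a power that is an involution -/
theorem exists_inv_pow {x : G} (h1 : x ≠ 1) {k : ℕ} (h : x ^ 2 ^ k = 1) :
    ∃ n : ℕ, x ^ n ≠ 1 ∧ x ^ n * x ^ n = 1 := by
  induction k with
  | zero => exact absurd (by simpa using h) h1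
  | succ k ih =>
    by_cases e : x ^ 2 ^ k = 1
    · exact ih e
    · exact ⟨2 ^ k, e, by rw [← pow_add, ← two_mul, ← pow_succ', h]⟩

end H45.HB
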