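import Cfsg.Agent.Lib.HB.Bas
import Cfsg.Agent.Lib.Perm.Burnside2

/-! S2208: regular normal subgroups and the socle. -/

set_option autoImplicit false
set_option linter.unusedSectionVars false

namespace H45.HB

open Subgroup Cfsg H69 H69.SI

universe u v

variable {G : Type u} [Group G] [Finite G] {Ω : Type v} [MulAction G Ω] [Finite Ω]
  {q Q μ : ℕ} {N : Ω → Subgroup G} {L : Subgroup G}

namespace Fro

open MulAction

theorem faithful (h : Cf q N) : FaithfulSMul G Ω :=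
  ⟨fun {a b} e => by
    have := h.faith (b⁻¹ * a) fun x => by rw [mul_smul, e, inv_smul_smul]
    exact (inv_mul_eq_one.1 this).symm⟩

theorem multi (h : Cf q N) : IsMultiplyPretransitive G Ω 2 :=
  is_two_pretransitive_iff.2 fun hab hcd => h.two _ _ _ _ hab hcd

theorem trans (h : Cf q N) {M : Subgroup G} (hn : M.Normal) (hM : M ≠ ⊥) (x y : Ω) :
    ∃ l ∈ M, l • x = y := by
  by_cases e : x = y
  · exact ⟨1, one_mem _, by rw [one_smul, e]⟩
  obtain ⟨⟨m, hm⟩, hm1⟩ := ne_bot_iff_exists_ne_one.1 hM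
  by_contra hc
  refine hm1 (Subtype.ext (h.faith m fun p => ?_))
  by_contra hp
  obtain ⟨g, rfl, rfl⟩ := h.two p (m • p) x y (Ne.symm hp) e
  exact hc ⟨g * m * g⁻¹, hn.conj_mem m hm g, by rw [mul_smul, mul_smul, inv_smul_smul]⟩

theorem reg_of (h : Cf q N) {M : Subgroup G} (hn : M.Normal) (hM : M ≠ ⊥)
    (hs : ∀ a : Ω, stabilizer M a = ⊥) : Reg G Ω :=
  ⟨M, hn, trans h hn hM, fun x r hr e => congrArg Subtype.val
    ((eq_bot_iff_forall _).1 (hs x) ⟨r, hr⟩ e)⟩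

end Fro

theorem Cf.reg_of_dil (h : Cf q N) {k : ℕ} (hc : Nat.card Ω = 2 ^ k) {D : Subgroup G}
    (hn : D.Normal) (hD : D ≠ ⊥)
    (h2 : ∀ d ∈ D, ∀ x y : Ω, x ≠ y → d • x = x → d • y = y → d = 1) : Reg G Ω := by
  obtain ⟨M, hMn, hM, hMD, hmin⟩ := H26.exists_minNormal_le D hD
  refine Fro.reg_of h hMn hM fun a => ?_
  by_contra ha
  have := Fintype.ofFinite Ω
  obtain ⟨⟨y, hy⟩, hy1⟩ := ne_bot_iff_exists_ne_one.1 ha
  obtain ⟨h1, h3⟩ := Cfsg.Agent.S4252.result (G := M) (Ω := Ω) (Fintype.one_lt_card_iff.2 h.ne)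
    (fun x y => let ⟨l, hl, e⟩ := Fro.trans h hMn hM x y; ⟨⟨l, hl⟩, e⟩)
    ⟨y, fun e => hy1 (Subtype.ext e), a, hy⟩ (fun g hg x y hx hy => by
      by_contra hxy
      exact hg (Subtype.ext (h2 g (hMD g.2) x y hxy hx hy))) a
  obtain ⟨K, hK, -, hKc⟩ := Cfsg.Agent.S0035.result _ h1
  rw [h3] at hK
  have hKm : ∀ x : M, x ∈ K ↔ x = 1 ∨ ∀ ω : Ω, x • ω ≠ ω := fun x => by
    rw [← SetLike.mem_coe, hK]; rfl
  rcases H26.eq_bot_or_top_of_conj hmin K (fun g x hx => by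
    rw [hKm] at hx ⊢
    rcases hx with rfl | hx
    · simp
    · refine Or.inr fun ω hω => hx (g⁻¹ • ω) ?_
      have hω' : (g * x * g⁻¹) • ω = ω := hω
      rw [mul_smul, mul_smul, ← eq_inv_smul_iff] at hω'
      exact hω') with e | e
  · rw [e] at hKc
    exact absurd (isComplement'_bot_left.mp hKc) h1.2.1
  · rw [e] at hKc
    exact absurd (isComplement'_top_left.mp hKc) h1.1

theorem Cf.socle (h : Cf q N) : Reg G Ω ∨ ∃ L : Subgroup G, L.Normal ∧ IsSimpleGroup L ∧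
    ¬ IsMulCommutative L ∧ ∀ x y : Ω, ∃ l ∈ L, l • x = y := by
  obtain ⟨a, b, hab⟩ := h.ne
  obtain ⟨g, -, hg⟩ := h.moves hab
  obtain ⟨M, hMn, hM, -, hmin⟩ := H26.exists_minNormal_le (⊤ : Subgroup G) fun e => hg (by
    rw [(eq_bot_iff_forall _).1 e g (mem_top g), one_smul])
  have hmin' : ∀ L : Subgroup G, L.Normal → L ≤ M → L = ⊥ ∨ L = M := hmin
  by_cases hs : ∀ a : Ω, MulAction.stabilizer M a = ⊥
  · exact Or.inl (Fro.reg_of h hMn hM hs)
  push Not at hs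
  obtain ⟨c, hc⟩ := hs
  have := Fro.faithful h
  refine Or.inr ⟨M, hMn, H26.isSimpleGroup_of_minNormal (Fro.multi h) M hmin' hc, fun hab => hc ?_,
    Fro.trans h hMn hM⟩
  refine (eq_bot_iff_forall _).2 fun m hm => Subtype.ext (h.faith m fun p => ?_)
  obtain ⟨l, hl, rfl⟩ := Fro.trans h hMn hM c p
  have e : (m : G) * l = l * m := congrArg Subtype.val (hab.is_comm.comm m ⟨l, hl⟩)
  have hm' : (m : G) • c = c := hm
  rw [← mul_smul, e, mul_smul, hm']

end H45.HB
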