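import Cfsg.Agent.Lib.HB.Bas
import Cfsg.Agent.Lib.SylInt.Inner
import Cfsg.Agent.Lib.H71.CTwo2
import Cfsg.Agent.Lib.Gold.Top
import Cfsg.Agent.Lib.GL.Simple
import Cfsg.Agent.Lib.Unitary.Simple
import Cfsg.Agent.Lib.InvChar.BenderAb

set_option autoImplicit false
set_option linter.unusedSectionVars false

namespace H45.HB

open Subgroup Cfsg H69 H69.SI H72

universe u v

namespace Inst
variable {X : Type u} [Group X] [Finite X]

theorem simple (h : IsBenderGroup X) : IsSimpleGroup X := by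
  rcases h with ⟨F, _, _, h1, h2, ⟨e⟩⟩ | ⟨F, _, _, n, h1, h2, ⟨e⟩⟩ | h
  · haveI := H10.isSimpleGroup_PSL_fin (F := F) 2 le_rfl fun _ => by rwa [Nat.card_eq_fintype_card]
    exact e.isSimpleGroup
  · have : H11.U.IsSq F (2 ^ n) := ⟨h2⟩
    haveI := H11.U.isSimpleGroup_PSU (F := F) (q := 2 ^ n) (n := 3) le_rfl fun ⟨_, k⟩ => by
      have : 2 ^ 2 ≤ 2 ^ n := Nat.pow_le_pow_right (by norm_num) h1
      omega
    exact e.isSimpleGroup
  · obtain ⟨F, _, _, m, hF, ⟨M⟩⟩ := exists_model_of_isoSuzuki h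
    exact M.isSimpleGroup

theorem nab_of_se {H : Subgroup X} (h : IsStronglyEmbedded H) : ¬ IsMulCommutative X := fun c => by
  obtain ⟨g, hg⟩ : ∃ g, g ∉ H := by
    by_contra hc
    push Not at hc
    exact h.1 (eq_top_iff.2 fun x _ => hc x)
  have := h.2.2 g hg
  rw [inf_eq_left.2 fun x hx => ⟨x, hx, by simp [c.1.1 g x]⟩] at this
  exact Nat.not_even_iff_odd.2 this h.2.1

theorem se_of_comm (h : IsBenderGroup X) (S : Sylow 2 X) (hS : IsMulCommutative (S : Subgroup X)) :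
    ∃ H : Subgroup X, IsStronglyEmbedded H := by
  obtain ⟨F, _, _, n, h1, h2, ⟨e⟩⟩ := psl_of_bender_of_comm h S hS
  haveI := charP_two_of_card_pow (by omega) h2
  exact ⟨_, H71.C2.se_comap e H71.C2.se_psl_even⟩

theorem nab (h : IsBenderGroup X) : ¬ IsMulCommutative X := fun c => by
  obtain ⟨H, hH⟩ := se_of_comm h default inferInstance
  exact nab_of_se hH c

theorem inv_one (h : IsBenderGroup X) : ∃ T : Subgroup X, IsSylowIn 2 T ⊤ ∧
    ∀ x ∈ T, x * x = 1 → x ∈ 𝐂(T) := by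
  rcases h with ⟨F, _, _, h1, h2, e⟩ | ⟨F, _, _, n, h1, h2, ⟨e⟩⟩ | h
  · obtain ⟨n, h3, h4⟩ := exists_card_eq_two_pow F h2
    let S : Sylow 2 X := default
    have h5 : ∀ x ∈ S, x⁻¹ = x := fun x hx => inv_eq_of_mul_eq_one_right
      (L2e.sq ⟨F, _, _, n, h3, h4, e⟩ (isPGroup_iff_mem.1 S.isPGroup' x hx))
    refine ⟨S, isSylowIn_top S, fun a ha _ b hb => ?_⟩
    rw [← h5 _ (mul_mem hb ha), mul_inv_rev, h5 a ha, h5 b hb]
  · have : H11.U.IsSq F (2 ^ n) := ⟨h2⟩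
    have : CharP F 2 := charP_two (n := n * 2) (by omega) (by rw [h2, pow_mul])
    refine ⟨_, isSylowIn_equiv e (isSylowIn_UQ (dvd_pow_self 2 (by omega))), ?_⟩
    rintro _ ⟨_, ⟨a, rfl⟩, rfl⟩ k _ ⟨_, ⟨b, rfl⟩, rfl⟩
    simp only [← map_mul] at k ⊢
    rw [MulEquiv.coe_toMonoidHom, e.symm.map_eq_one_iff, map_eq_one_iff _ UQ.toPSU_injective,
      UQ.mul_self_eq_one_iff] at k
    rw [UQ.comm_of_X k]
  · obtain ⟨F, _, _, m, hF, ⟨M⟩⟩ := exists_model_of_isoSuzuki h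
    have : CharP F 2 := H14.Sz.charP_two_of_card hF.2
    refine ⟨M.U, M.coe_sylow ▸ isSylowIn_top M.sylow, ?_⟩
    rintro _ ⟨a, b, rfl⟩ k _ ⟨c, d, rfl⟩
    rw [M.u_sq_eq_one_iff.1 k, M.u_commute_iff]
    simp

theorem even (h : IsBenderGroup X) : 2 ∣ Nat.card X := by
  haveI := simple h
  by_contra hc
  let S : Sylow 2 X := default
  obtain ⟨H, hH⟩ := se_of_comm h S (by
    rw [card_eq_one.1 (S.isPGroup'.card_eq_or_dvd.resolve_right fun k =>
      hc (k.trans (card_subgroup_dvd_card _)))]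
    infer_instance)
  exact hc (hH.2.1.two_dvd.trans (card_subgroup_dvd_card _))

end Inst

variable {G : Type u} [Group G] [Finite G] {N : Subgroup G}

theorem b0_of (h : IsBenderGroup N) : ∃ q, B0 q N := by
  have hs := Inst.simple h
  have hn := Inst.nab h
  obtain ⟨T0, hT0, i0⟩ := Inst.inv_one h
  have hT : Syl N (T0.map N.subtype) := by
    have := hT0.map N.subtype
    rwa [← MonoidHom.range_eq_map, range_subtype] at this
  have i1 : ∀ x ∈ T0.map N.subtype, x * x = 1 → x ∈ zo (T0.map N.subtype) := by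
    rintro _ ⟨x, hx, rfl⟩ k
    refine ⟨⟨⟨x, hx, rfl⟩, ?_⟩, k⟩
    rintro _ ⟨y, hy, rfl⟩
    exact congrArg Subtype.val (i0 x hx (Subtype.ext k) y hy)
  generalize T0.map N.subtype = T at hT i1
  have inv : ∀ {S}, Syl N S → ∀ x ∈ S, x * x = 1 → x ∈ zo S := fun hS x hx k => by
    obtain ⟨g, -, rfl⟩ := hT.conj hS
    rw [← cj_zo, mem_cj]
    exact i1 _ (mem_cj.1 hx) (by simpa using cj_sq k g⁻¹)
  have cz : ∀ {S}, Syl N S → Nat.card (zo S) = Nat.card (zo T) := fun hS => by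
    obtain ⟨g, -, rfl⟩ := hT.conj hS
    rw [← cj_zo, card_cj]
  have ne : zo T ≠ ⊥ := zo_ne_bot hT.isP (hT.dvd_card_iff.1 (Inst.even h))
  have sc : Gold.SC (zo T) N := ⟨zo_le'.trans hT.le, fun Q hQ hle g hg a ha hc => by
    obtain ⟨T', hT', hle'⟩ := exists_isSylowIn_le (hQ.to_inf_left (K := N)) inf_le_right
    rw [eq_of_le_of_card_ge (fun z hz => inv hT' z (hle' ⟨hle hz, hT.le (zo_le' hz)⟩) (zo_sq hz))
      (cz hT').le]
    exact inv hT' _ (hle' ⟨hc, H69.conj_mem_of_mem_normalizer (le_normalizer hg) (hT.le (zo_le' ha))⟩)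
      (cj_sq (zo_sq ha) g)⟩
  obtain ⟨T', t⟩ : ∃ T', Gold.TypeI N (zo T) T' := by
    refine (Gold.gs_amb hs hn _ (ea_zo T) ne sc).elim id fun t => ?_
    obtain ⟨S, hS⟩ := t.syl.exists_sylow_subgroupOf
    obtain ⟨H, hH⟩ := Inst.se_of_comm h S (by
      rw [hS]
      exact ⟨⟨fun a b => Subtype.ext (Subtype.ext (zo_comm b.2 (zo_le' a.2)))⟩⟩)
    exact ⟨_, Gold.typeI_of_se Gold.keys hs hn (ea_zo T) ne sc hT zo_le' H hH⟩
  refine ⟨_, h, hs, hn, t.four, cz, inv, fun {S S'} hS hS' x hx hx' h1 => ?_, fun {S} hS => ?_⟩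
  · obtain ⟨g, hg, rfl⟩ := t.syl.conj hS
    rw [← t.eq_of_syl (hS'.cj_of_mem_normalizer (le_normalizer (inv_mem hg))) fun e => cj_ne h1 g⁻¹
      ((eq_bot_iff_forall _).1 e _ ⟨by simpa using mem_cj.1 hx, cj_mem _ hx'⟩), cj_inv_cj]
  · obtain ⟨g, hg, hg'⟩ := t.exists_out
    by_cases e : T' = S
    · exact ⟨_, t.syl.cj_of_mem_normalizer (le_normalizer hg), fun f => hg' (cj_eq_self_iff.1 (e ▸ f))⟩
    · exact ⟨_, t.syl, e⟩

end H45.HB
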