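import Cfsg.Agent.Lib.HB.Bas
import Cfsg.Agent.Lib.Holt.BF1

set_option autoImplicit false
set_option linter.unusedSectionVars false

namespace H45.HB

open Subgroup Cfsg H69 H69.SI

universe u v

variable {G : Type u} [Group G] [Finite G] {q : ℕ} {N : Subgroup G}

namespace Mod

/-- the Sylow 2-subgroups of `N` -/
def Lam (N : Subgroup G) : Type u := {S : Subgroup G // Syl N S}

instance : Finite (Lam N) := inferInstanceAs (Finite {S : Subgroup G // Syl N S})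

instance act : MulAction 𝐍(N) (Lam N) where
  smul x S := ⟨S.1 ^ᶜ (x : G), S.2.cj_of_mem_normalizer x.2⟩
  one_smul S := Subtype.ext (cj_one S.1)
  mul_smul x y S := Subtype.ext (cj_cj S.1 (y : G) x).symm

open Classical in
noncomputable def rho (N : Subgroup G) (x : G) : Equiv.Perm (Lam N) :=
  if h : x ∈ 𝐍(N) then MulAction.toPermHom 𝐍(N) (Lam N) ⟨x, h⟩ else 1

theorem rho_eq {x : G} (h : x ∈ 𝐍(N)) : rho N x = MulAction.toPermHom 𝐍(N) (Lam N) ⟨x, h⟩ :=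
  dif_pos h

theorem rho_val {x : G} (h : x ∈ 𝐍(N)) (a : Lam N) : (rho N x a).1 = a.1 ^ᶜ x := by
  rw [rho_eq h]; rfl

theorem rho_mul {x y : G} (hx : x ∈ 𝐍(N)) (hy : y ∈ 𝐍(N)) : rho N (x * y) = rho N x * rho N y := by
  rw [rho_eq hx, rho_eq hy, rho_eq (mul_mem hx hy), ← map_mul]; rfl

theorem rho_one : rho N 1 = 1 := by
  rw [rho_eq (one_mem _)]; exact map_one _

theorem rho_inv {x : G} (hx : x ∈ 𝐍(N)) : rho N x⁻¹ = (rho N x)⁻¹ :=
  eq_inv_of_mul_eq_one_left (by rw [← rho_mul (inv_mem hx) hx, inv_mul_cancel, rho_one])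

theorem rho_fix {x : G} (h : x ∈ 𝐍(N)) (a : Lam N) : rho N x a = a ↔ x ∈ 𝐍(a.1) := by
  rw [← cj_eq_self_iff, ← rho_val h]; exact Subtype.ext_iff

/-- `ρ` on `N` -/
noncomputable def hom (N : Subgroup G) : N →* Equiv.Perm (Lam N) where
  toFun x := rho N x
  map_one' := rho_one
  map_mul' x y := rho_mul (le_normalizer x.2) (le_normalizer y.2)

theorem hom_inj (h : B0 q N) : Function.Injective (hom N) := by
  haveI := h.simple
  rw [← MonoidHom.ker_eq_bot_iff]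
  refine (IsSimpleGroup.eq_bot_or_eq_top_of_normal _ inferInstance).resolve_right fun e => ?_
  obtain ⟨S, hS⟩ := exists_isSylowIn 2 N
  obtain ⟨S', hS', hne⟩ := h.other hS
  obtain ⟨g, hg, e'⟩ := hS.conj hS'
  have : hom N ⟨g, hg⟩ = 1 := (MonoidHom.mem_ker).1 (e ▸ mem_top _)
  have := (rho_fix (le_normalizer hg) ⟨S, hS⟩).1 (by rw [show rho N g = 1 from this]; rfl)
  exact hne (by rw [← e', cj_eq_of_mem_normalizer this])

theorem rho_inj (h : B0 q N) {x y : G} (hx : x ∈ N) (hy : y ∈ N) (e : rho N x = rho N y) : x = y :=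
  congrArg Subtype.val (hom_inj h (a₁ := ⟨x, hx⟩) (a₂ := ⟨y, hy⟩) e)

theorem rho_pow {x : G} (hx : x ∈ N) (n : ℕ) : rho N (x ^ n) = rho N x ^ n :=
  map_pow (hom N) ⟨x, hx⟩ n

theorem mem_range {l : Equiv.Perm (Lam N)} : l ∈ (hom N).range ↔ ∃ x ∈ N, rho N x = l :=
  ⟨fun ⟨x, e⟩ => ⟨x, x.2, e⟩, fun ⟨x, hx, e⟩ => ⟨⟨x, hx⟩, e⟩⟩

theorem ben (h : B0 q N) : H29.Holt.IsBen (hom N).range := by
  haveI := h.simple
  have e := MonoidHom.ofInjective (hom_inj h)
  refine ⟨e.symm.isSimpleGroup, fun c => h.nab ⟨⟨fun a b => e.injective ?_⟩⟩, fun a b => ?_, ?_⟩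
  · rw [map_mul, map_mul, c.1.1]
  · obtain ⟨g, hg, e'⟩ := a.2.conj b.2
    exact ⟨_, mem_range.2 ⟨g, hg, rfl⟩, Subtype.ext ((rho_val (le_normalizer hg) a).trans e')⟩
  · intro σ hσ h1 h2
    obtain ⟨x, hx, rfl⟩ := mem_range.1 hσ
    have n := le_normalizer hx
    have x2 : x * x = 1 := rho_inj h (mul_mem hx hx) (one_mem _) (by rw [rho_mul n n, h2, rho_one])
    obtain ⟨S, hS, hxS⟩ := exists_syl_mem' hx x2
    refine ⟨⟨S, hS⟩, (rho_fix n _).2 (le_normalizer hxS), fun b hb => Subtype.ext ?_⟩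
    exact h.ti b.2 hS x (mem_syl' b.2 hx ((rho_fix n b).1 hb) x2) hxS fun f => h1 (by rw [f, rho_one])

end Mod

open _root_.H45.HB.Mod in
theorem exists_mo (h : B0 q N) : ∃ (Λ : Type u) (_ : Finite Λ) (L : Subgroup (Equiv.Perm Λ))
    (ρ : G → Equiv.Perm Λ) (σ : Λ → Subgroup G), Mo N L ρ σ := by
  have hb := ben h
  have cj : ∀ x ∈ 𝐍(N), ∀ y ∈ N, rho N (x * y * x⁻¹) = rho N x * rho N y * (rho N x)⁻¹ :=
    fun x hx y hy => by
      rw [rho_mul (mul_mem hx (le_normalizer hy)) (inv_mem hx), rho_mul hx (le_normalizer hy), rho_inv hx]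
  refine ⟨Lam N, inferInstance, (hom N).range, rho N, fun a => a.1, hb, fun x hx y hy => rho_mul hx hy,
    rho_one, fun x hx => rho_inv hx, fun x hx => ⟨fun e y hy => ?_, fun e => ?_⟩,
    fun x hx y hy => rho_inj h hx hy, fun l => mem_range, fun x hx => ?_, fun a => a.2,
    fun hS => ⟨⟨_, hS⟩, rfl⟩, Subtype.val_injective, fun x hx => rho_val hx, fun x hx => rho_fix hx,
    fun a l => ?_, fun a l => ?_, fun A A' hA e => ?_⟩
  · have := rho_inj h (conj_mem_of_mem_normalizer hx hy) hy (by rw [cj x hx y hy, e]; simp)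
    exact (mul_inv_eq_iff_eq_mul.1 this).symm
  · exact Equiv.ext fun a => (rho_fix hx a).2
      (le_normalizer_of_le_centralizer le_rfl (centralizer_anti a.2.le e))
  · refine mem_normalizer_of_cj_le ?_
    rintro _ ⟨l, hl, rfl⟩
    obtain ⟨y, hy, rfl⟩ := mem_range.1 hl
    exact mem_range.2 ⟨_, conj_mem_of_mem_normalizer hx hy, cj x hx y hy⟩
  · rw [hb.mem_Sb]
    constructor
    · rintro ⟨hl, ha, n, hn⟩
      obtain ⟨x, hx, rfl⟩ := mem_range.1 hl
      exact ⟨x, mem_syl a.2 hx ((rho_fix (le_normalizer hx) a).1 ha) (k := n)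
        (rho_inj h (pow_mem hx _) (one_mem _) (by rw [rho_pow hx, hn, rho_one])), rfl⟩
    · rintro ⟨x, hx, rfl⟩
      obtain ⟨k, hk⟩ := pow_of_mem a.2.isP hx
      exact ⟨mem_range.2 ⟨x, a.2.le hx, rfl⟩, (rho_fix (le_normalizer (a.2.le hx)) a).2 (le_normalizer hx),
        k, by rw [← rho_pow (a.2.le hx), hk, rho_one]⟩
  · rw [hb.mem_Vb]
    constructor
    · rintro ⟨hl, ha, hn⟩
      obtain ⟨x, hx, rfl⟩ := mem_range.1 hl
      have n := le_normalizer hx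
      have x2 : x * x = 1 := rho_inj h (mul_mem hx hx) (one_mem _) (by rw [rho_mul n n, hn, rho_one])
      exact ⟨x, h.inv a.2 x (mem_syl' a.2 hx ((rho_fix n a).1 ha) x2) x2, rfl⟩
    · rintro ⟨x, hx, rfl⟩
      have hx' := a.2.le (zo_le' hx)
      have n := le_normalizer hx'
      exact ⟨mem_range.2 ⟨x, hx', rfl⟩, (rho_fix n a).2 (le_normalizer (zo_le' hx)),
        by rw [← rho_mul n n, zo_sq hx, rho_one]⟩
  · refine (Nat.card_congr (Equiv.ofBijective (fun x : A => (⟨rho N x, (e _).2 ⟨x, x.2, rfl⟩⟩ : A'))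
      ⟨fun x y f => Subtype.ext (rho_inj h (hA x.2) (hA y.2) (congrArg Subtype.val f)), fun l => ?_⟩)).symm
    obtain ⟨x, hx, f⟩ := (e l).1 l.2
    exact ⟨⟨x, hx⟩, Subtype.ext f⟩

end H45.HB
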