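import Cfsg.Agent.Lib.HB.Bas
import Cfsg.Agent.S0205
import Cfsg.Agent.S0215

set_option autoImplicit false
set_option linter.unusedSectionVars false

namespace H45.HB

open Subgroup Cfsg H69 H69.SI

universe u v

variable {G : Type u} [Group G] [Finite G] {Ω : Type v} [MulAction G Ω] [Finite Ω]
  {q Q μ : ℕ} {N : Ω → Subgroup G} {L : Subgroup G}

theorem OD1.fix (h : Od q N L) {P : Subgroup G} (hP : IsPGroup 2 P) : ∃ p : Ω, ∀ g ∈ P, g • p = p := by
  obtain ⟨p, -, hp⟩ := exists_fixed hP (A := (Set.univ : Set Ω)) (by rw [Set.ncard_univ]; exact h.odd)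
    fun _ _ _ _ => trivial
  exact ⟨p, hp⟩

theorem Od.le (h : Od q N L) (x : Ω) : N x ≤ L := by
  have nL := h.normal
  refine ((h.bn x).norm (N x ⊓ L) inf_le_left (le_normalizer_inf le_normalizer
    le_normalizer_of_normal)).elim (fun e => False.elim ?_) fun e => inf_eq_left.1 e
  have all : ∀ p, ∀ y ∈ N p, y ∈ L → y = 1 := fun p y hy hL => by
    obtain ⟨g, rfl⟩ := h.toCf.tr x p
    rw [← h.conj, mem_cj] at hy
    have := mem_bot.1 (e.le ⟨hy, nL.conj_mem' _ hL g⟩)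
    calc y = g * (g⁻¹ * y * g) * g⁻¹ := by group
      _ = 1 := by rw [this]; group
  obtain ⟨S, hS⟩ := exists_isSylowIn 2 (N x)
  obtain ⟨z, hz, z1⟩ := (h.bn x).exists_z hS
  have zN := hS.le (zo_le' hz)
  have zH : z ∈ L ⊔ zpowers z := mem_sup_right (mem_zpowers z)
  have cL : ∀ l ∈ L, l * z * l⁻¹ * z⁻¹ ∈ L := fun l hl => by
    simpa only [mul_assoc] using L.mul_mem hl (nL.conj_mem _ (L.inv_mem hl) z)
  obtain ⟨P, hP⟩ := (two_zpowers' (u := (⟨z, zH⟩ : (L ⊔ zpowers z : Subgroup G)))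
    (Subtype.ext (zo_sq hz))).exists_le_sylow
  obtain ⟨O, hO, odd, hc⟩ := Cfsg.Agent.S0215.result P ⟨z, zH⟩
    (orderOf_eq_prime (Subtype.ext ((pow_two z).trans (zo_sq hz))) fun e => z1 (congrArg Subtype.val e))
    (hP (mem_zpowers _)) fun g hg => by
      obtain ⟨p, hp⟩ := OD1.fix h (P.isPGroup'.map (L ⊔ zpowers z).subtype)
      have h1 := h.p2 p x z zN (zo_sq hz) (hp z ⟨_, hP (mem_zpowers _), rfl⟩)
      have h2 := h.p2 p _ _ (h.toCf.cj_mem zN g) (cj_sq (zo_sq hz) _) (hp _ ⟨_, hg, rfl⟩)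
      obtain ⟨l, hl, _, ⟨k, rfl⟩, e⟩ := (mem_sup_of_le_normalizer_left le_normalizer_of_normal).1 g.2
      have e2 : (g : G) * z * (g : G)⁻¹ = l * z * l⁻¹ := by rw [e]; group
      rw [e2] at h2
      exact Subtype.ext (e2.trans (mul_inv_eq_one.1 (all p _ (mul_mem h2 (inv_mem h1)) (cL l hl))))
  have := h.simple
  rcases (hO.comap (inclusion (le_sup_left : L ≤ L ⊔ zpowers z))).eq_bot_or_eq_top with c | c
  · refine z1 (h.faith z fun p => ?_)
    obtain ⟨l, hl, rfl⟩ := h.tr x p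
    have m : z * l * z⁻¹ * l⁻¹ ∈ L := L.mul_mem (nL.conj_mem _ hl z) (L.inv_mem hl)
    have : z * l * z⁻¹ * l⁻¹ = 1 := congrArg Subtype.val (mem_bot.1 (c.le (show (⟨_, m⟩ : L) ∈ _ from
      hc ⟨l, mem_sup_left hl⟩)))
    rw [← mul_smul, mul_inv_eq_iff_eq_mul.1 (mul_inv_eq_one.1 this), mul_smul, h.fix x z zN]
  · have d : Nat.card L ∣ Nat.card O := card_dvd_of_injective
      ((inclusion (le_sup_left : L ≤ L ⊔ zpowers z)).codRestrict O fun l => c.ge (mem_top l))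
      fun a b e => inclusion_injective _ (congrArg Subtype.val e)
    exact h.nab ⟨⟨IsSimpleGroup.comm_iff_isSolvable.2 (Cfsg.Agent.S0205.result (odd.of_dvd_nat d))⟩⟩

end H45.HB
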