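import Cfsg.Agent.Lib.HB.Bas
import Cfsg.Agent.Lib.Gold.Top

set_option autoImplicit false
set_option linter.unusedSectionVars false

namespace H45.HB

open Subgroup Cfsg H69 H69.SI

universe u v

variable {G : Type u} [Group G] [Finite G] {Ω : Type v} [MulAction G Ω] [Finite Ω]
  {q Q μ : ℕ} {N : Ω → Subgroup G} {L S T : Subgroup G} {x p : Ω}

theorem OD2.fix (h : Od q N L) {P : Subgroup G} (hP : IsPGroup 2 P) : ∃ p : Ω, p ∈ (FS P : Set Ω) := by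
  obtain ⟨p, -, hp⟩ := exists_fixed hP (A := (Set.univ : Set Ω)) (by rw [Set.ncard_univ]; exact h.odd)
    fun _ _ _ _ => trivial
  exact ⟨p, hp⟩

theorem OD2.le (h : Od q N L) (hS : Syl (N x) S) (hp : p ∈ (FS (zo S) : Set Ω)) : zo S ≤ N p :=
  fun z hz => h.p2 p x z (hS.le (zo_le' hz)) (zo_sq hz) (hp z hz)

theorem OD2.eq (h : Od q N L) (hS : Syl (N x) S) (hT : Syl (N p) T) (hle : zo S ≤ T) : zo S = zo T :=
  eq_of_le_of_card_ge (fun z hz => (h.bn p).inv hT z (hle hz) (zo_sq hz))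
    (by rw [(h.bn p).cardZ hT, (h.bn x).cardZ hS])

theorem OD2.two (h : Od q N L) (hle : ∀ x, N x ≤ L) (hS : Syl (N x) S) : Gold.TypeII L (zo S) := by
  obtain ⟨z, hz, z1⟩ := (h.bn x).exists_z hS
  refine (Gold.gs_amb h.simple h.nab (zo S) (ea_zo S) (fun e => z1 (mem_bot.1 (e.le hz)))
    ⟨(zo_le'.trans hS.le).trans (hle x), fun P hP h1 l _ a ha h2 => ?_⟩).resolve_left ?_
  · obtain ⟨p, hp⟩ := OD2.fix h hP
    obtain ⟨T, hT, h3⟩ := exists_isSylowIn_le (hP.to_le (inf_le_left : P ⊓ N p ≤ P)) inf_le_right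
    rw [OD2.eq h hS hT ((le_inf h1 (OD2.le h hS (FS_anti h1 hp))).trans h3)]
    exact (h.bn p).inv hT _ (h3 ⟨h2, h.p2 p _ _ (h.toCf.cj_mem (hS.le (zo_le' ha)) l) (cj_sq (zo_sq ha) l)
      (hp _ h2)⟩) (cj_sq (zo_sq ha) l)
  · rintro ⟨T, hT⟩
    obtain ⟨p, hp⟩ := OD2.fix h hT.syl.isP
    obtain ⟨S', hS', h1⟩ := exists_isSylowIn_le (hS.isP.to_le zo_le') (OD2.le h hS (FS_anti hT.le hp))
    obtain ⟨g, hg, h2⟩ := (h.bn p).exists_not_norm hS'
    have h3 : g ∉ 𝐍(T) := fun m => h2 ((h.bn p).norm_of hS' (le_normalizer hg) (h1 hz) z1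
      (h1 (conj_mem_of_mem_normalizer ((hT.norm_iff' (hle p hg)).2 m) hz)))
    have h4 : ∀ l ∈ L, p ∈ (FS (T ^ᶜ l) : Set Ω) := fun l hl => by
      by_cases c : l ∈ 𝐍(T)
      · rwa [cj_eq_of_mem_normalizer c]
      · obtain ⟨t, ht, e⟩ := hT.trans g (hle p hg) h3 l hl c
        have := (smul_mem_FS t).2 ((smul_mem_FS g).2 hp)
        rwa [h.fix p g hg, hp t ht, e] at this
    refine z1 (h.faith z fun y => ?_)
    obtain ⟨l, hl, rfl⟩ := h.tr p y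
    have := mem_FS_cj.1 (h4 _ (inv_mem hl))
    rw [inv_inv] at this
    exact this z (hT.le hz)

theorem Od.od2 (h : Od q N L) (hle : ∀ x, N x ≤ L) : Od2 q N L := by
  have e : ∀ {x S}, Syl (N x) S → zo S = S := fun {x S} hS =>
    eq_of_le_of_card_ge zo_le' ((OD2.two h hle hS).syl.card_le hS.isP (hS.le.trans (hle x)))
  have sy : ∀ {x S}, Syl (N x) S → Syl L S := fun hS => e hS ▸ (OD2.two h hle hS).syl
  refine ⟨h, hle, sy, fun {x S} hS => e hS ▸ (h.bn x).cardZ hS, ?_, fun u hu u2 => ?_⟩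
  · obtain ⟨x, -⟩ := h.ne
    obtain ⟨S, hS⟩ := exists_isSylowIn 2 (N x)
    exact (h.bn x).cardZ hS ▸ (OD2.two h hle hS).card
  · obtain ⟨x, -⟩ := h.ne
    obtain ⟨S, hS⟩ := exists_isSylowIn 2 (N x)
    obtain ⟨g, -, h1⟩ := (sy hS).exists_le_cj (two_zpowers' u2) (zpowers_le.2 hu)
    exact ⟨_, (h.toCf.syl_cj hS g).le (h1 (mem_zpowers u))⟩

end H45.HB
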