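import Cfsg.Agent.Lib.HB.Bas
import Cfsg.Agent.Lib.Invol.Count
import Cfsg.Agent.S0679
import Cfsg.Agent.S0418

set_option autoImplicit false
set_option linter.unusedSectionVars false

namespace H45.HB

open Subgroup Cfsg H69 H69.SI

universe u v

variable {G : Type u} [Group G] [Finite G] {Ω : Type v} [MulAction G Ω] [Finite Ω]
  {q Q μ : ℕ} {N : Ω → Subgroup G} {L : Subgroup G}

namespace OD5

theorem orbit_stab (h : Od2 q N L) (a : Ω) :
    Nat.card (L ⊓ MulAction.stabilizer G a : Subgroup G) * Nat.card Ω = Nat.card L := by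
  haveI : MulAction.IsPretransitive L Ω := ⟨fun x y => by
    obtain ⟨l, hl, e⟩ := h.tr x y
    exact ⟨⟨l, hl⟩, e⟩⟩
  rw [← H4.card_inf_mul_relIndex (MulAction.stabilizer G a) L, inf_comm,
    ← MulAction.index_stabilizer_of_transitive L a]
  rfl

theorem card60 (h : Od2 4 N L) (a : Ω) : Nat.card (N a) = 60 := by
  obtain ⟨S, hS⟩ := exists_isSylowIn 2 (N a)
  rw [((h.bn a).psl hS (h.cardS hS)).1]; rfl

theorem dvd_stab (h : Od2 4 N L) (hn : Nat.card Ω = 57) {p : ℕ} (hp : p = 3 ∨ p = 5) {a b : Ω}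
    (hab : a ≠ b) : p ∣ Nat.card (N a ⊓ MulAction.stabilizer G b : Subgroup G) := by
  have pp : p.Prime := by rcases hp with rfl | rfl <;> norm_num
  haveI := Fact.mk pp
  obtain ⟨x, hx, ho⟩ := H1.exists_mem_orderOf_eq_prime (H := N a) pp (by
    rw [card60 h]; rcases hp with rfl | rfl <;> norm_num)
  have hP : IsPGroup p (zpowers x) := IsPGroup.of_card (n := 1) (by rw [Nat.card_zpowers, ho, pow_one])
  have hm := hP.card_modEq_card_fixedPoints Ω
  have : ∃ c, c ≠ a ∧ x • c = c := by
    by_contra hc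
    push Not at hc
    have e : MulAction.fixedPoints (zpowers x) Ω = {a} := by
      ext c
      refine ⟨fun f => by_contra fun g => hc c g (f ⟨x, mem_zpowers x⟩), ?_⟩
      rintro rfl g
      exact h.fix _ _ (zpowers_le.2 hx g.2)
    rw [e, hn, Nat.card_unique] at hm
    rcases hp with rfl | rfl <;> exact absurd hm (by decide)
  obtain ⟨c, hc, hxc⟩ := this
  rw [h.toCf.card_stab hab hc.symm, ← ho]
  exact orderOf_dvd_natCard (N a ⊓ MulAction.stabilizer G c) ⟨hx, hxc⟩

end OD5

open OD5

theorem Od2.eleven (h : Od2 4 N L) (hc : Nat.card L = 660 ∨ (Nat.card L = 3420 ∧ ∀ a : Ω,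
    2 * Nat.card (L ⊓ MulAction.stabilizer G a : Subgroup G) ≤ 15 * 20)) :
    Nat.card Ω = 11 ∧ Nat.card L = 660 := by
  obtain ⟨a, b, hab⟩ := h.ne
  have e := orbit_stab h a
  obtain ⟨k, hk⟩ : 60 ∣ Nat.card (L ⊓ MulAction.stabilizer G a : Subgroup G) := by
    rw [← card60 h a]
    exact card_dvd_of_le (le_inf (h.le a) fun g hg => h.fix a g hg)
  have h2 : 1 < Nat.card Ω := Finite.one_lt_card_iff_nontrivial.2 ⟨a, b, hab⟩
  rcases hc with hc | ⟨hc, hb⟩
  · refine ⟨?_, hc⟩
    have : Nat.card Ω ∣ 11 := Dvd.intro_left k (by rw [hk, hc] at e; linarith)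
    rcases (Nat.dvd_prime (by norm_num)).1 this with f | f
    · omega
    · exact f
  · exfalso
    have hb := hb a
    rw [hk] at hb e
    rw [hc] at e
    have hn : Nat.card Ω = 57 := by
      have : k ≤ 2 := by omega
      interval_cases k <;> omega
    have h15 : 3 * 5 ∣ Nat.card (N a ⊓ MulAction.stabilizer G b : Subgroup G) :=
      Nat.Coprime.mul_dvd_of_dvd_of_dvd (by norm_num) (dvd_stab h hn (Or.inl rfl) hab)
        (dvd_stab h hn (Or.inr rfl) hab)
    obtain ⟨m, hm⟩ := h15
    have e2 := H4.card_mul_relIndex_of_le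
      (inf_le_left : N a ⊓ MulAction.stabilizer G b ≤ N a)
    haveI := (h.bn a).simple
    have hT : (N a ⊓ MulAction.stabilizer G b).subgroupOf (N a) ≠ ⊤ := fun f => by
      obtain ⟨g, hg, hm⟩ := h.toCf.moves hab
      exact hm (subgroupOf_eq_top.1 f hg).2
    have e3 := H9.card_dvd_factorial_index_of_simple hT
    rw [card60 h] at e2 e3
    rw [hm] at e2
    have h4 : (N a ⊓ MulAction.stabilizer G b).relIndex (N a) ≤ 4 :=
      Nat.le_of_dvd (by norm_num) (Dvd.intro_left m (by linarith))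
    exact absurd (e3.trans (Nat.factorial_dvd_factorial h4)) (by decide)

theorem Od2.fin (h : Od2 4 N L) (h11 : Nat.card Ω = 11) (hL : Nat.card L = 660) :
    Nonempty (G ≃* Matrix.ProjectiveSpecialLinearGroup (Fin 2) (ZMod 11)) := by
  classical
  haveI := Fintype.ofFinite Ω
  have hα : Fintype.card Ω = 11 := by rw [← Nat.card_eq_fintype_card, h11]
  let φ := MulAction.toPermHom G Ω
  have hφ : Function.Injective φ := (injective_iff_map_eq_one φ).2 fun g hg =>
    h.faith g fun x => congrArg (fun e : Equiv.Perm Ω => e x) hg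
  let e : G ≃* φ.range := MonoidHom.ofInjective hφ
  haveI : MulAction.IsPretransitive φ.range Ω := ⟨fun x y => by
    obtain ⟨g, hg⟩ := h.toCf.tr x y
    exact ⟨⟨φ g, g, rfl⟩, hg⟩⟩
  haveI := h.simple
  haveI := h.normal
  have hs : ¬ Group.IsSolvable φ.range := fun f => by
    haveI : Group.IsSolvable G := Group.isSolvable_of_isSolvable_injective (f := e.toMonoidHom) e.injective
    exact h.nab ⟨⟨IsSimpleGroup.comm_iff_isSolvable.2 inferInstance⟩⟩
  have hA : ¬ alternatingGroup Ω ≤ φ.range := fun f => by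
    have c1 : Nat.card (L.map φ) = 660 := by rw [card_map_of_injective hφ, hL]
    haveI : Nontrivial Ω := Finite.one_lt_card_iff_nontrivial.1 (by omega)
    haveI : ((L.map φ).subgroupOf (alternatingGroup Ω)).Normal := ⟨fun n hn g => by
      obtain ⟨g', hg'⟩ := f g.2
      obtain ⟨l, hl, hl'⟩ := hn
      refine ⟨g' * l * g'⁻¹, h.normal.conj_mem l hl g', ?_⟩
      rw [map_mul, map_mul, map_inv, hg', hl']; rfl⟩
    rcases alternatingGroup.normal_subgroup_eq_bot_or_eq_top (by omega)
      (N := (L.map φ).subgroupOf (alternatingGroup Ω)) with g | g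
    · have e1 := H4.card_inf_mul_relIndex (alternatingGroup Ω) (L.map φ)
      rw [inf_comm, disjoint_iff.1 (subgroupOf_eq_bot.1 g), card_bot, one_mul, c1] at e1
      have := relIndex_dvd_index_of_normal (alternatingGroup Ω) (L.map φ)
      rw [e1, alternatingGroup.index_eq_two] at this
      exact absurd this (by decide)
    · have := card_le_of_le (subgroupOf_eq_top.1 g)
      rw [c1, nat_card_alternatingGroup, h11] at this
      exact absurd this (by decide)
  rcases Cfsg.Agent.S0679.result hα φ.range hs hA with ⟨h4, hsh⟩ | ⟨⟨f⟩⟩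
  · obtain ⟨h1, h2⟩ := Cfsg.Agent.S0418.result hα φ.range hsh
    haveI : IsSimpleGroup G := e.isSimpleGroup
    rw [← Nat.card_congr e.toEquiv] at h2
    rcases h.normal.eq_bot_or_eq_top with g | g
    · rw [g, card_bot] at hL; omega
    · rw [g, card_top] at hL; omega
  · exact ⟨e.trans f⟩

end H45.HB
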